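import Mathlib
import Cfsg.Agent.INV.Bic.Fus
import Cfsg.Agent.PLOC.Fusion
import Cfsg.Agent.PLOC.PFrattini

/-!
S5217 (fusion systems on bicyclic 2-groups): the data passed between the files of this folder.
-/

set_option autoImplicit false

namespace CL.BC

open Subgroup Cfsg CL.Fus CL.Bic
open scoped commutatorElement

variable {G : Type*} [Group G]

/-- `Q` is self-centralising and has index two in its normaliser `Q⟨t⟩`. -/
structure NQ (Q : Subgroup G) (t : G) : Prop where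
  cent : centralizer (Q : Set G) ≤ Q
  tn : t ∈ normalizer (Q : Set G)
  tq : t ∉ Q
  nq : ∀ g ∈ normalizer (Q : Set G), g ∈ Q ∨ g * t⁻¹ ∈ Q

/-- ... and an automorphism of order three inverted by `t` modulo `Inn Q`. -/
structure S3 (Q : Subgroup G) (t : G) (α : MulAut Q) : Prop where
  n : NQ Q t
  a3 : α ^ 3 = 1
  a1 : α ≠ 1
  inv : cjAut Q t n.tn * α * (cjAut Q t n.tn)⁻¹ * α ∈ Inn Q

/-- the minimality condition used in the saturation criterion -/
def Min (Q : Subgroup G) (α : MulAut Q) : Prop :=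
  Q.Normal ∨ ∀ R : Subgroup G, R < Q → ∃ i : ℕ,
    ¬ centralizer (img (autFun (α ^ i)) R : Set G) ≤ img (autFun (α ^ i)) R

/-- `Q = K⟨c⟩`, `K = ⟨a, b⟩` is `Q₈` or (if `a ^ 2 = 1`) a four-group, `c` centralises `K`. -/
structure Q8 (Q : Subgroup G) (t a b c : G) : Prop where
  eq : Q = closure ({a, b, c} : Set G)
  a4 : a ^ 4 = 1
  b2 : b ^ 2 = a ^ 2
  ba : b * a * b⁻¹ = a⁻¹
  ca : Commute c a
  cb : Commute c b
  ta : t * a * t⁻¹ = a * b
  tb : t * b * t⁻¹ = b ∨ t * b * t⁻¹ = b⁻¹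
  free : ∀ i j k : ℤ, a ^ i * b ^ j = c ^ k → Even i ∧ Even j

/-- `t` centralises `c` but not `Q` modulo `R` (in use `R = Φ(Q)`). -/
structure RD (Q : Subgroup G) (t c : G) (R : Subgroup G) : Prop where
  cQ : c ∈ Q
  Qn : Q ≤ normalizer (R : Set G)
  tn : t ∈ normalizer (R : Set G)
  tc : ⁅t, c⁆ ∈ R
  tq : ∃ q ∈ Q, ⁅t, q⁆ ∉ R

/-- `Q = K⟨c⟩` with `K` abelian, `⟨u, v⟩ ≤ K` a four-group centralised by `Q` and not by `t`. -/
structure HM (Q : Subgroup G) (t c : G) (K : Subgroup G) (u v : G) : Prop where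
  le : K ≤ Q
  comm : ∀ x ∈ K, ∀ y ∈ K, x * y = y * x
  gen : ∀ q ∈ Q, ∃ k ∈ K, ∃ i : ℤ, q = k * c ^ i
  disj : ∀ i : ℤ, c ^ i ∈ K → c ^ i = 1
  uK : u ∈ K
  vK : v ∈ K
  u1 : u ≠ 1
  v1 : v ≠ 1
  uv : u ≠ v
  u2 : u ^ 2 = 1
  v2 : v ^ 2 = 1
  cen : ∀ q ∈ Q, Commute q u ∧ Commute q v
  ncen : ¬ (Commute t u ∧ Commute t v)

/-- `K = [V, α]`, `V = K⟨c⟩` -/
structure KA {V : Type*} [Group V] (α : MulAut V) (K : Subgroup V) (c : V) : Prop where
  normal : K.Normal
  mem : ∀ v, v⁻¹ * α v ∈ K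
  min : ∀ L : Subgroup V, (∀ k ∈ K, k⁻¹ * α k ∈ L) → K ≤ L
  fix : α c = c
  gen : ∀ v, ∃ k ∈ K, ∃ i : ℤ, v = k * c ^ i
  mc : IsMetacyclic K

/-- A bicyclic non-metacyclic 2-group with non-cyclic commutator subgroup; `A = Φ(G)`, `U = Ω₁(G')`. -/
structure Amb (A U : Subgroup G) : Prop where
  pg : IsPGroup 2 G
  ab : ∀ v ∈ commutator G, ∀ w ∈ commutator G, v * w = w * v
  nc : ¬ IsCyclic (commutator G)
  mc : IsMetacyclic A
  idx : A.index = 4
  sq : ∀ g, g ^ 2 ∈ A
  W_le : commutator G ≤ A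
  le : ∀ T : Subgroup G, T.index = 2 → A ≤ T
  half : ∀ T : Subgroup G, T.index = 2 → ∀ a ∈ T, a ∉ A → ∀ g ∈ T, g ∈ A ∨ a⁻¹ * g ∈ A
  gen : ∀ T : Subgroup G, T.index = 2 → ∀ a ∈ T, a ∉ A → ∀ x, x ∉ T → closure ({a, x} : Set G) = ⊤
  memU : ∀ u, u ∈ U ↔ u ∈ A ∧ u ^ 2 = 1
  cardU : Nat.card U = 4
  U_le : U ≤ commutator G
  cenU : ∀ g ∈ A, ∀ u ∈ U, g * u = u * g
  idxC : (centralizer (U : Set G)).index ≤ 2

/-- The bicyclic non-metacyclic 2-groups with cyclic commutator subgroup; `z = w ^ 2 ^ n`. -/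
structure ST (a x w c : G) (n : ℕ) : Prop where
  pg : IsPGroup 2 G
  nm : ¬ IsMetacyclic G
  gen : closure ({a, x} : Set G) = ⊤
  W : commutator G = zpowers w
  ord : orderOf w = 2 ^ (n + 1)
  xa : x * a * x⁻¹ = a * w
  aw : a * w * a⁻¹ = w⁻¹
  xw : ∃ j : ℤ, x * w * x⁻¹ = w ^ (2 * j - 1) ∧ c = w ^ j * x ^ 2
  alt : (a ^ 2 = 1 ∧ ∀ k : ℤ, c ^ k ≠ w ^ 2 ^ n) ∨ (1 ≤ n ∧ a ^ 2 = w ^ 2 ^ n)

theorem gen2_top_of_metacyclic (h : IsMetacyclic G) : Gen2 (⊤ : Subgroup G) := by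
  obtain ⟨N, hN, h1, h2⟩ := h
  obtain ⟨a, ha⟩ := IsCyclic.exists_generator (α := N)
  obtain ⟨b, hb⟩ := IsCyclic.exists_generator (α := G ⧸ N)
  obtain ⟨b, rfl⟩ := QuotientGroup.mk_surjective b
  refine ⟨a, b, eq_top_iff.2 fun g _ => ?_⟩
  obtain ⟨i, hi⟩ := mem_zpowers_iff.1 (hb (g : G ⧸ N))
  rw [← QuotientGroup.mk_zpow, QuotientGroup.eq] at hi
  obtain ⟨j, hj⟩ := mem_zpowers_iff.1 (ha ⟨_, hi⟩)
  have hj' : (a : G) ^ j = (b ^ i)⁻¹ * g := by simpa using congrArg Subtype.val hj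
  have : g = b ^ i * (a : G) ^ j := by rw [hj']; group
  rw [this]
  exact mul_mem (zpow_mem (subset_closure (by simp)) _) (zpow_mem (subset_closure (by simp)) _)

theorem gen2_of_metacyclic {H : Subgroup G} (h : IsMetacyclic H) : Gen2 H := by
  have := (gen2_top_of_metacyclic h).map H.subtype
  rwa [← MonoidHom.range_eq_map, range_subtype] at this

theorem metacyclic_of_le {H K : Subgroup G} (h : IsMetacyclic K) (hle : H ≤ K) : IsMetacyclic H :=
  MC.metacyclic_of_injective h _ (inclusion_injective hle)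

/-- two generators commuting modulo a normal subgroup -/
theorem commutator_le_of_pair {x y : G} (h : closure ({x, y} : Set G) = ⊤) {R : Subgroup G} [R.Normal]
    (hR : ⁅x, y⁆ ∈ R) : commutator G ≤ R := by
  have hc : Commute (QuotientGroup.mk x : G ⧸ R) (QuotientGroup.mk y) := by
    rw [← commutatorElement_eq_one_iff_commute]
    exact (map_commutatorElement (QuotientGroup.mk' R) x y).symm.trans ((QuotientGroup.eq_one_iff _).2 hR)
  have key : ∀ g h' : G, Commute (QuotientGroup.mk g : G ⧸ R) (QuotientGroup.mk h') := by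
    have h1 : ∀ g : G, Commute (QuotientGroup.mk g : G ⧸ R) (QuotientGroup.mk x) ∧
        Commute (QuotientGroup.mk g : G ⧸ R) (QuotientGroup.mk y) := by
      intro g
      have hg : g ∈ closure ({x, y} : Set G) := h ▸ mem_top g
      induction hg using closure_induction with
      | mem z hz =>
        rcases hz with rfl | rfl
        · exact ⟨Commute.refl _, hc⟩
        · exact ⟨hc.symm, Commute.refl _⟩
      | one => exact ⟨Commute.one_left _, Commute.one_left _⟩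
      | mul a b _ _ ha hb => exact ⟨ha.1.mul_left hb.1, ha.2.mul_left hb.2⟩
      | inv a _ ha => exact ⟨ha.1.inv_left, ha.2.inv_left⟩
    intro g h'
    have hg : h' ∈ closure ({x, y} : Set G) := h ▸ mem_top h'
    induction hg using closure_induction with
    | mem z hz =>
      rcases hz with rfl | rfl
      · exact (h1 g).1
      · exact (h1 g).2
    | one => exact Commute.one_right _
    | mul a b _ _ ha hb => exact ha.mul_right hb
    | inv a _ ha => exact ha.inv_right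
  rw [commutator_def, commutator_le]
  intro g _ h' _
  rw [← QuotientGroup.eq_one_iff]
  exact (map_commutatorElement (QuotientGroup.mk' R) g h').trans
    (commutatorElement_eq_one_iff_commute.2 (key g h'))

variable [Finite G]

/-- normalisers grow -/
theorem le_of_normalizer (hG : IsPGroup 2 G) {Q C : Subgroup G} (hQ : Q ≤ C)
    (h : ∀ g ∈ C, g ∈ normalizer (Q : Set G) → g ∈ Q) : C ≤ Q := by
  by_contra hn
  have := Tr.lt_inf_normalizer_of_lt (hG.to_subgroup C) (lt_of_le_of_ne hQ fun e => hn e.ge)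
  exact this.not_ge fun g hg => h g hg.1 hg.2

theorem index_frattini_le_eight (hG : IsPGroup 2 G) {B : Subgroup G} (hB : B.index ≤ 2) (hm : IsMetacyclic B) :
    (frattini G).index ≤ 8 := by
  have h1 := (gen2_of_metacyclic hm).relIndex_le (B := frattini G ⊓ B) inf_le_right
    fun m hm => ⟨by rw [← sq]; exact PG.pow_mem_frattini hG m, mul_mem hm hm⟩
  have h2 := relIndex_mul_index (inf_le_right : frattini G ⊓ B ≤ B)
  have h3 : (frattini G).index ≤ (frattini G ⊓ B).index :=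
    Nat.le_of_dvd (Nat.pos_of_ne_zero index_ne_zero_of_finite) (index_dvd_of_le inf_le_left)
  nlinarith

/-- the subgroup `Q ∩ M` of `Q` -/
theorem sub_index_le {Q M : Subgroup G} (hM : M.index = 2) : (M.subgroupOf Q).index ≤ 2 := by
  have := normal_of_index_eq_two hM
  exact Nat.le_of_dvd two_pos (hM ▸ relIndex_dvd_index_of_normal M Q)

omit [Finite G] in
theorem sub_metacyclic {Q M : Subgroup G} (hm : IsMetacyclic M) : IsMetacyclic (M.subgroupOf Q) :=
  MC.metacyclic_of_injective hm ((Q.subtype.comp (M.subgroupOf Q).subtype).codRestrict M fun x => x.2)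
    fun a b e => Subtype.ext (Subtype.ext (congrArg (fun z : M => (z : G)) e))

end CL.BC
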