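import Mathlib
import Cfsg.Agent.FUS.BC.Defs
import Cfsg.Agent.SOLV.Products
import Cfsg.Agent.SOLV.PGroupCyclicSCN
import Cfsg.Agent.PLOC.PRank

/-!
S5217: the ambient facts when the commutator subgroup is not cyclic.
-/

set_option autoImplicit false

namespace CL.BC

open Subgroup Cfsg CL.Fus CL.Bic
open scoped commutatorElement

variable {G : Type*} [Group G] [Finite G]

/-- `A` = intersection of all subgroups of index 2 (or `frattini G`). `ab`: Ito
(`CL.derivedSeries_two_eq_bot_of_isFact`, `A = zpowers x`, `B = zpowers y`). `idx`: `≤ 4` by `Gen2.relIndex_le`, and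
there are two different subgroups of index 2 (`exists_third`: `T`, and `exists_index_two` over `zpowers x`; `G` is not
cyclic). `mc`: `A ≤ M`, `M` of index 2 containing `x` (`BicOn.metacyclic_max`). `half`: `A.relIndex T = 2`,
`mul_mem_iff_of_index_two`. `gen`: otherwise `closure {a, x} ≤ T'` of index 2, `T' ≠ T`, `A ≤ T ⊓ T'` of index `≥ 4`,
so `A = T ⊓ T' ∋ a`. `U₀ = {w ∈ G' | w ^ 2 = 1}` is a normal subgroup; order `∣ 4` (`MC.card_dvd_sq`), and `> 2` since
an abelian 2-group with at most one involution is cyclic. `G` permutes the three involutions of `U₀`, orbits have size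
1 or 2, so `C(U₀)` = stabiliser of a suitable involution has index `≤ 2`, hence contains `A`. An involution
`u ∈ A` commutes with `U₀`, `U₀ ⊔ zpowers u ≤ A` has exponent 2, order `∣ 4`, so `u ∈ U₀`. -/
theorem exists_amb (hG : IsPGroup 2 G) {x y : G} (hb : BicOn ⊤ x y) (hm : ¬ IsMetacyclic G)
    (hc : ¬ IsCyclic (commutator G)) : ∃ A U : Subgroup G, Amb A U := by
  have := Fact.mk Nat.prime_two
  let A : Subgroup G := ⨅ T : {T : Subgroup G // T.index = 2}, T.1
  have mA : ∀ g, g ∈ A ↔ ∀ T : Subgroup G, T.index = 2 → g ∈ T := fun g => by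
    simp only [A, mem_iInf, Subtype.forall]
  have le : ∀ T : Subgroup G, T.index = 2 → A ≤ T := fun T hT g hg => (mA g).1 hg T hT
  have sq : ∀ g, g ^ 2 ∈ A := fun g => (mA _).2 fun T hT => T.sq_mem_of_index_two hT g
  have wl : commutator G ≤ A := fun g hg => (mA _).2 fun T hT => by
    refine (commutator_le.2 fun a _ b _ => ?_ : commutator G ≤ T) hg
    rw [commutatorElement_def, mul_assoc, mul_mem_iff_of_index_two hT, mul_mem_iff_of_index_two hT,
      mul_mem_iff_of_index_two hT, inv_mem_iff, inv_mem_iff]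
  have four : ∀ T T' : Subgroup G, T.index = 2 → T'.index = 2 → T ≠ T' → 4 ≤ (T ⊓ T').index := fun T T' a b c => by
    have e := relIndex_mul_index (inf_le_left : T ⊓ T' ≤ T)
    have n0 : (T ⊓ T').relIndex T ≠ 0 := index_ne_zero_of_finite
    have n1 : (T ⊓ T').relIndex T ≠ 1 := fun d => c (eq_of_le_of_card_ge ((relIndex_eq_one.1 d).trans inf_le_right) (by
      have e1 := T.card_mul_index
      have e2 := T'.card_mul_index
      rw [a] at e1
      rw [b] at e2
      omega))
    rw [a] at e
    omega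
  have i4 : A.index ≤ 4 := by
    have := hb.gen2.relIndex_le (B := A) le_top fun m _ => by rw [← pow_two]; exact sq m
    rwa [relIndex_top_right] at this
  have inf : ∀ T T' : Subgroup G, T.index = 2 → T'.index = 2 → T ≠ T' → A = T ⊓ T' := fun T T' a b c => by
    have l : A ≤ T ⊓ T' := le_inf (le T a) (le T' b)
    have e := relIndex_mul_index l
    have := four T T' a b c
    have n0 : A.relIndex (T ⊓ T') ≠ 0 := index_ne_zero_of_finite
    refine le_antisymm l (relIndex_eq_one.1 (by_contra fun n1 => ?_))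
    have : 2 * 4 ≤ A.relIndex (T ⊓ T') * (T ⊓ T').index := Nat.mul_le_mul (by omega) this
    omega
  obtain ⟨T, hT, -, -, xT, -, mT⟩ := hb.exists_third hG hm
  obtain ⟨M, xM, hM⟩ := exists_index_two hG (A := zpowers x) fun e => hc (by
    have : IsCyclic G := (isCyclic_iff_exists_zpowers_eq_top).2 ⟨x, e⟩
    infer_instance)
  have MT : M ≠ T := fun e => xT (e ▸ xM (mem_zpowers x))
  have idx : A.index = 4 := le_antisymm i4 (inf M T hM hT MT ▸ four M T hM hT MT)
  have mc : IsMetacyclic A := metacyclic_of_le (mT M hM MT) (le M hM)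
  have ab : ∀ v ∈ commutator G, ∀ w ∈ commutator G, v * w = w * v := fun v hv w hw => by
    have e : derivedSeries G 2 = ⊥ := CL.derivedSeries_two_eq_bot_of_isFact (A := zpowers x) (B := zpowers y)
      fun g => by
        obtain ⟨i, j, e⟩ := hb.eq g (mem_top g)
        exact ⟨_, zpow_mem (mem_zpowers x) i, _, zpow_mem (mem_zpowers y) j, e⟩
    have : ⁅v, w⁆ ∈ derivedSeries G 2 := commutator_mem_commutator hv hw
    rw [e, mem_bot, commutatorElement_eq_one_iff_mul_comm] at this
    exact this
  have : IsMulCommutative (commutator G) := ⟨⟨fun a b => Subtype.ext (ab a a.2 b b.2)⟩⟩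
  obtain ⟨U, UW, Un, Ue, cU⟩ := CL.PCyc.exists_normal_elemAb_le hG (commutator G) hc
  have iC : (centralizer (U : Set G)).index ≤ 2 := CL.PG.index_centralizer_le hG U cU.le
  have cen : ∀ g ∈ A, ∀ u ∈ U, g * u = u * g := fun g hg u hu => by
    have n0 : (centralizer (U : Set G)).index ≠ 0 := index_ne_zero_of_finite
    have : g ∈ centralizer (U : Set G) := by
      by_cases n1 : (centralizer (U : Set G)).index = 1
      · exact (index_eq_one.1 n1).ge (mem_top g)
      · exact le _ (by omega) hg
    exact (this u hu).symm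
  refine ⟨A, U, hG, ab, hc, mc, idx, sq, wl, le, fun T hT a ha na g hg => ?_, fun T hT a ha na x hx => ?_,
    fun u => ⟨fun hu => ⟨wl (UW hu), Ue.2 u hu⟩, fun hu => ?_⟩, cU, UW, cen, iC⟩
  · have e := relIndex_mul_index (le T hT)
    rw [hT, idx] at e
    have e2 : (A.subgroupOf T).index = 2 := by
      have : A.relIndex T = 2 := by omega
      exact this
    have := mul_mem_iff_of_index_two e2 (a := (⟨a, ha⟩ : T)⁻¹) (b := ⟨g, hg⟩)
    rw [inv_mem_iff] at this
    by_cases c : g ∈ A
    · exact .inl c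
    · exact .inr (this.2 (iff_of_false na c))
  · by_contra c
    obtain ⟨T', l, hT'⟩ := exists_index_two hG c
    have TT : T ≠ T' := fun e => hx (e ▸ l (subset_closure (by simp)))
    exact na (inf T T' hT hT' TT ▸ ⟨ha, l (subset_closure (by simp))⟩)
  · let E : Subgroup G :=
      { carrier := {g | g ∈ U ∨ g * u ∈ U}
        one_mem' := .inl (one_mem _)
        mul_mem' := by
          have uu : u * u = 1 := by rw [← pow_two, hu.2]
          rintro a b (ha | ha) (hb | hb)
          · exact .inl (mul_mem ha hb)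
          · exact .inr (mul_assoc a b u ▸ mul_mem ha hb)
          · refine .inr ?_
            rw [mul_assoc, ← cen u hu.1 b hb, ← mul_assoc]
            exact mul_mem ha hb
          · refine .inl ?_
            have := mul_mem ha hb
            rwa [mul_assoc, cen u hu.1 _ hb, mul_assoc, uu, mul_one] at this
        inv_mem' := by
          have uu : u * u = 1 := by rw [← pow_two, hu.2]
          rintro a (ha | ha)
          · exact .inl (inv_mem ha)
          · refine .inr ?_
            have := inv_mem ha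
            rw [mul_inv_rev, inv_eq_of_mul_eq_one_right uu] at this
            have e := cen u hu.1 _ this
            rw [← mul_assoc, uu, one_mul] at e
            rwa [e, mul_assoc, uu, mul_one] }
    have uu : u * u = 1 := by rw [← pow_two, hu.2]
    have EA : E ≤ A := by
      rintro a (ha | ha)
      · exact wl (UW ha)
      · exact (mul_mem_cancel_right hu.1).1 (wl (UW ha))
    have e2 : ∀ a ∈ E, a ^ 2 = 1 := by
      rintro a (ha | ha)
      · exact Ue.2 a ha
      · have e := Ue.2 _ ha
        rw [pow_two, mul_assoc, cen u hu.1 _ ha, mul_assoc, uu, mul_one] at e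
        rwa [pow_two]
    have d := MC.card_dvd_sq mc (E.subgroupOf A) (m := 2) fun a ha => Subtype.ext (e2 a ha)
    rw [Nat.card_congr (subgroupOfEquivOfLe EA).toEquiv] at d
    have : U = E := eq_of_le_of_card_ge (fun a ha => .inl ha) (cU ▸ Nat.le_of_dvd (by norm_num) d)
    exact this ▸ (.inr (uu ▸ one_mem _) : u ∈ E)

/-- `w = ⁅q, t⁆ ∈ Q`, `t w t⁻¹ = w⁻¹` (as `t ^ 2 ∈ Q` commutes with `q`), `Q` centralises `w`; so `zpowers w` is normal
and `commutator_le_of_pair` applies. -/
theorem cyclic_of_abelian {Q : Subgroup G} (hQ : Q.index = 2) (hab : ∀ x ∈ Q, ∀ y ∈ Q, x * y = y * x)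
    {q t : G} (hq : q ∈ Q) (h : closure ({q, t} : Set G) = ⊤) : IsCyclic (commutator G) := by
  have hn := normal_of_index_eq_two hQ
  have wQ : ⁅q, t⁆ ∈ Q := by
    rw [commutatorElement_def, mul_assoc, mul_assoc, ← mul_assoc t]
    exact mul_mem hq (hn.conj_mem _ (inv_mem hq) t)
  have e1 : t * ⁅q, t⁆ * t⁻¹ = ⁅q, t⁆⁻¹ := by
    have a := hab _ (Q.sq_mem_of_index_two hQ t) _ (inv_mem hq)
    rw [pow_two] at a
    rw [commutatorElement_inv, commutatorElement_def, commutatorElement_def]
    calc t * (q * t * q⁻¹ * t⁻¹) * t⁻¹ = t * q * t⁻¹ * (t * t * q⁻¹) * t⁻¹ * t⁻¹ := by group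
      _ = _ := by rw [a]; group
  have e2 : q * ⁅q, t⁆ * q⁻¹ = ⁅q, t⁆ := by rw [hab _ hq _ wQ, mul_inv_cancel_right]
  have nm : ∀ g : G, g * ⁅q, t⁆ * g⁻¹ ∈ zpowers ⁅q, t⁆ → g ∈ normalizer (zpowers ⁅q, t⁆ : Set G) := fun g hg =>
    mem_normalizer_fintype (by
      rintro _ ⟨i, rfl⟩
      show g * ⁅q, t⁆ ^ i * g⁻¹ ∈ zpowers _
      rw [← conj_zpow]
      exact zpow_mem hg i)
  have : (zpowers ⁅q, t⁆).Normal := normalizer_eq_top_iff.1 (eq_top_iff.2 (h.ge.trans ((closure_le _).2 (by
    rintro g (rfl | rfl)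
    · exact nm _ (e2.symm ▸ mem_zpowers _)
    · exact nm _ (e1.symm ▸ inv_mem (mem_zpowers _))))))
  exact isCyclic_of_le (commutator_le_of_pair h (mem_zpowers _))

end CL.BC
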