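import Mathlib
import Cfsg.Agent.FUS.BC.Defs

/-!
S5217: construction of the automorphism of order three.
-/

set_option autoImplicit false

namespace CL.BC

open Subgroup Cfsg CL.Fus CL.Bic
open scoped commutatorElement

namespace Cfg

variable {H : Type*} [Group H] {a b c : H}

theorem e_add (a4 : a ^ 4 = 1) (i j : ZMod (2 * 2)) : a ^ (i + j).val = a ^ i.val * a ^ j.val := by
  rw [ZMod.val_add, ← pow_add, ← pow_eq_pow_mod _ a4]

theorem e_sub (a4 : a ^ 4 = 1) (i j : ZMod (2 * 2)) :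
    a ^ (j - i).val = (a ^ i.val)⁻¹ * a ^ j.val := by
  rw [eq_inv_mul_iff_mul_eq, ← e_add a4, add_sub_cancel]

theorem pow_b (ba : b * a * b⁻¹ = a⁻¹) (n : ℕ) : a ^ n * b = b * (a ^ n)⁻¹ := by
  have : b * (a ^ n)⁻¹ * b⁻¹ = a ^ n := by
    rw [← inv_pow, ← conj_pow, ← conj_inv, ba, inv_inv]
  rw [← mul_inv_eq_iff_eq_mul.1 this]

/-- the homomorphism from the quaternion group -/
def psi (a4 : a ^ 4 = 1) (b2 : b ^ 2 = a ^ 2) (ba : b * a * b⁻¹ = a⁻¹) : QuaternionGroup 2 →* H :=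
  MonoidHom.mk' (fun q => match q with
    | .a i => a ^ i.val
    | .xa i => b * a ^ i.val) (by
    rintro (i | i) (j | j)
    · exact e_add a4 i j
    · show b * a ^ (j - i).val = _
      rw [e_sub a4, ← mul_assoc, ← mul_assoc, pow_b ba]
    · show b * a ^ (i + j).val = _
      rw [e_add a4, mul_assoc]
    · show a ^ (((2 : ℕ) : ZMod (2 * 2)) + j - i).val = _
      rw [add_sub_assoc, e_add a4, e_sub a4, mul_assoc, ← mul_assoc (a ^ i.val), pow_b ba,
        show ((2 : ℕ) : ZMod (2 * 2)).val = 2 from rfl, ← b2, sq]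
      simp only [mul_assoc])

theorem psi_comm (a4 : a ^ 4 = 1) (b2 : b ^ 2 = a ^ 2) (ba : b * a * b⁻¹ = a⁻¹) (ca : Commute c a)
    (cb : Commute c b) (q : QuaternionGroup 2) (k : Multiplicative ℤ) :
    Commute (psi a4 b2 ba q) (zpowersHom H c k) := by
  refine Commute.zpow_right ?_ _
  rcases q with i | i
  · exact ca.symm.pow_left _
  · exact cb.symm.mul_left (ca.symm.pow_left _)

theorem ab2 (ba : b * a * b⁻¹ = a⁻¹) : (a * b) ^ 2 = b ^ 2 := by
  rw [show (a * b) ^ 2 = a * (b * a * b⁻¹) * b ^ 2 by simp only [sq]; group, ba]; group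

theorem aba (ba : b * a * b⁻¹ = a⁻¹) : a * b * a = b := by
  rw [show a * b * a = a * (b * a * b⁻¹) * b by group, ba]; group

theorem abb (a4 : a ^ 4 = 1) (b2 : b ^ 2 = a ^ 2) : a * b * b = a⁻¹ := by
  rw [mul_assoc, ← sq, b2, eq_inv_iff_mul_eq_one, ← a4]; group

theorem ab' (a4 : a ^ 4 = 1) (b2 : b ^ 2 = a ^ 2) (ba : b * a * b⁻¹ = a⁻¹) :
    a * b * a⁻¹ = b⁻¹ := by
  rw [← abb a4 b2, eq_inv_iff_mul_eq_one, show a * b * (a * b * b) * b = (a * b) ^ 2 * b ^ 2 by
    simp only [sq]; group, ab2 ba, b2, ← a4]; group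

theorem bab (a4 : a ^ 4 = 1) (b2 : b ^ 2 = a ^ 2) (ba : b * a * b⁻¹ = a⁻¹) : b * (a * b) = a := by
  rw [show b * (a * b) = b * (a * b * a⁻¹) * a by group, ab' a4 b2 ba]; group

theorem ext3 {K : Type*} [Group K] (gen : closure ({a, b, c} : Set H) = ⊤) {f g : H →* K}
    (ha : f a = g a) (hb : f b = g b) (hc : f c = g c) : f = g :=
  MonoidHom.eq_of_eqOn_dense gen (by rintro _ (rfl | rfl | rfl) <;> assumption)

theorem main (gen : closure ({a, b, c} : Set H) = ⊤) (a4 : a ^ 4 = 1) (b2 : b ^ 2 = a ^ 2)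
    (ba : b * a * b⁻¹ = a⁻¹) (ca : Commute c a) (cb : Commute c b)
    (free : ∀ i j k : ℤ, a ^ i * b ^ j = c ^ k → Even i ∧ Even j) :
    (∃ α : MulAut H, α a = b ∧ α b = a * b ∧ α c = c ∧ α ^ 3 = 1) ∧
      ∀ q, ∃ w ∈ closure ({a ^ 2, c} : Set H), q = w ∨ q = a * w ∨ q = b * w ∨ q = a * b * w := by
  have b4 : b ^ 4 = 1 := by rw [show b ^ 4 = b ^ 2 * b ^ 2 by group, b2, ← a4]; group
  have ba' : a * b * b * (a * b)⁻¹ = b⁻¹ := by rw [← ab' a4 b2 ba]; group
  let φ := (psi a4 b2 ba).noncommCoprod (zpowersHom H c) (psi_comm a4 b2 ba ca cb)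
  let φ' := (psi b4 (ab2 ba) ba').noncommCoprod (zpowersHom H c)
    (psi_comm b4 (ab2 ba) ba' cb (ca.mul_right cb))
  have e1 : ∀ i k, φ (.a i, k) = a ^ i.val * c ^ k.toAdd := fun _ _ => rfl
  have e2 : ∀ i k, φ (.xa i, k) = b * a ^ i.val * c ^ k.toAdd := fun _ _ => rfl
  have e1' : ∀ i k, φ' (.a i, k) = b ^ i.val * c ^ k.toAdd := fun _ _ => rfl
  have e2' : ∀ i k, φ' (.xa i, k) = a * b * b ^ i.val * c ^ k.toAdd := fun _ _ => rfl
  have v0 : (0 : ZMod (2 * 2)).val = 0 := rfl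
  have v1 : (1 : ZMod (2 * 2)).val = 1 := rfl
  have pa : φ (.a 1, 1) = a := by rw [e1, v1]; simp
  have pb : φ (.xa 0, 1) = b := by rw [e2, v0]; simp
  have pc : φ (.a 0, Multiplicative.ofAdd 1) = c := by rw [e1, v0]; simp
  have sj : Function.Surjective φ := MonoidHom.range_eq_top.1 (eq_top_iff.2 (gen.ge.trans
    ((closure_le _).2 (by
      rintro _ (rfl | rfl | rfl)
      exacts [⟨_, pa⟩, ⟨_, pb⟩, ⟨_, pc⟩]))))
  have kk : φ.ker ≤ φ'.ker := by
    rintro ⟨i | i, k⟩ hm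
    · rw [MonoidHom.mem_ker, e1] at hm
      have := (free i.val 0 (-k.toAdd) (by
        rw [zpow_zero, mul_one, zpow_natCast, zpow_neg, eq_inv_iff_mul_eq_one, hm])).1
      obtain ⟨n, hn⟩ := (Int.even_coe_nat _).1 this
      rw [MonoidHom.mem_ker, e1', ← hm, hn, ← two_mul, pow_mul, pow_mul, b2]
    · rw [MonoidHom.mem_ker, e2] at hm
      have := (free (-i.val) 1 (-k.toAdd) (by
        rw [zpow_one, zpow_neg, zpow_natCast, zpow_neg, eq_inv_iff_mul_eq_one, ← hm, ← inv_pow,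
          pow_b (a := a⁻¹) (by rw [← conj_inv, ba]), inv_pow, inv_inv])).2
      exact absurd this (by decide)
  let β : H →* H := MonoidHom.liftOfSurjective φ sj ⟨φ', kk⟩
  have ev : ∀ m, β (φ m) = φ' m := fun m => MonoidHom.liftOfRightInverse_comp_apply _ _ _ _ _
  have βa : β a = b := by rw [← pa, ev, e1', v1]; simp
  have βb : β b = a * b := by
    conv_lhs => rw [← pb]
    rw [ev, e2', v0]; simp
  have βc : β c = c := by
    conv_lhs => rw [← pc]
    rw [ev, e1', v0]; simp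
  have β3 : β.comp (β.comp β) = MonoidHom.id H := ext3 gen
    (by simp only [MonoidHom.comp_apply, βa, βb, map_mul, bab a4 b2 ba, MonoidHom.id_apply])
    (by simp only [MonoidHom.comp_apply, βa, βb, map_mul, bab a4 b2 ba, aba ba, MonoidHom.id_apply])
    (by simp only [MonoidHom.comp_apply, βc, MonoidHom.id_apply])
  refine ⟨⟨MonoidHom.toMulEquiv β (β.comp β) β3 β3, βa, βb, βc,
    MulEquiv.ext fun x => DFunLike.congr_fun β3 x⟩, fun q => ?_⟩
  obtain ⟨⟨i | i, k⟩, rfl⟩ := sj q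
  all_goals
    have m1 : c ^ k.toAdd ∈ closure ({a ^ 2, c} : Set H) := zpow_mem (subset_closure (by simp)) _
    have m2 : a ^ 2 * c ^ k.toAdd ∈ closure ({a ^ 2, c} : Set H) :=
      mul_mem (subset_closure (by simp)) m1
    have hi : i.val < 4 := ZMod.val_lt i
  · rw [e1]
    generalize i.val = n at hi
    interval_cases n
    · exact ⟨_, m1, Or.inl (by group)⟩
    · exact ⟨_, m1, Or.inr (Or.inl (by group))⟩
    · exact ⟨_, m2, Or.inl rfl⟩
    · exact ⟨_, m2, Or.inr (Or.inl (by group))⟩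
  · rw [e2]
    generalize i.val = n at hi
    interval_cases n
    · exact ⟨_, m1, Or.inr (Or.inr (Or.inl (by group)))⟩
    · exact ⟨_, m2, Or.inr (Or.inr (Or.inr (by
        rw [show a * b * (a ^ 2 * c ^ k.toAdd) = a * b * a * a * c ^ k.toAdd by simp only [sq, mul_assoc],
          aba ba, pow_one])))⟩
    · exact ⟨_, m2, Or.inr (Or.inr (Or.inl (by group)))⟩
    · exact ⟨_, m1, Or.inr (Or.inr (Or.inr (by
        rw [← pow_one a, pow_b ba, pow_one, show a⁻¹ = a ^ 3 from by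
          rw [inv_eq_iff_mul_eq_one, ← a4]; group])))⟩

end Cfg

variable {G : Type*} [Group G] [Finite G]

/-- `ψ : QuaternionGroup 2 →* G` with `ψ (xa 0) = a`, `ψ (a 1) = b` (or the other way round),
`φ : QuaternionGroup 2 × Multiplicative ℤ →* G`, `(q, i) ↦ ψ q * c ^ i` (`MonoidHom.noncommCoprod`), range `Q`.
`σ ∈ Aut(Q₈)` of order 3 with `a ↦ b ↦ a b ↦ a` (`decide`), `φ' = φ ∘ (σ × id)`; `φ m = 1` forces `m.1` central (`free`), so
`φ`, `φ'` have the same kernel and range, giving `α` with `α (φ m) = φ' m` (`QuotientGroup.quotientKerEquivRange`).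
`inv`: compare on `a, b, c`: `τ α = c_k α⁻¹ τ` with `k = b` if `t b t⁻¹ = b`, `k = a b` if `t b t⁻¹ = b⁻¹` (up to
inverses). `Min`: if `a ^ 2 = 1`, `Q` is abelian, `i = 0`. With `d`: if `c ∉ R` or `a ^ 2 ∉ R` take `i = 0`; otherwise
`R ≤ ⟨k, c⟩` for one `k ∈ {a, b, a b}` (two different types in `R` give `R = Q`), `α ^ i R ≤ closure {b, c}` is
centralised by `d ∉ Q`. -/
theorem exists_S3_of_Q8 {Q : Subgroup G} {t a b c : G} (h : Q8 Q t a b c) (tc : Commute t c) (hn : NQ Q t)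
    (hd : Q.Normal ∨ a ^ 2 = 1 ∨ ∃ d, d ∉ Q ∧ Commute d b ∧ Commute d c) :
    ∃ α : MulAut Q, S3 Q t α ∧ Min Q α := by
  have aQ : a ∈ Q := h.eq ▸ subset_closure (by simp)
  have bQ : b ∈ Q := h.eq ▸ subset_closure (by simp)
  have cQ : c ∈ Q := h.eq ▸ subset_closure (by simp)
  set A : Q := ⟨a, aQ⟩ with hA
  set B : Q := ⟨b, bQ⟩ with hB
  set C : Q := ⟨c, cQ⟩ with hC
  have gen : closure ({A, B, C} : Set Q) = ⊤ := by
    apply map_injective Q.subtype_injective
    rw [MonoidHom.map_closure, ← MonoidHom.range_eq_map, range_subtype]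
    simp only [Set.image_insert_eq, Set.image_singleton]
    exact h.eq.symm
  have a4 : A ^ 4 = 1 := Subtype.ext h.a4
  have b2 : B ^ 2 = A ^ 2 := Subtype.ext h.b2
  have ba : B * A * B⁻¹ = A⁻¹ := Subtype.ext h.ba
  have ca : Commute C A := Subtype.ext h.ca
  have cb : Commute C B := Subtype.ext h.cb
  obtain ⟨⟨α, αa, αb, αc, α3⟩, dec⟩ := Cfg.main gen a4 b2 ba ca cb fun i j k e =>
    h.free i j k (by simpa using congrArg Subtype.val e)
  have τa : cjAut Q t hn.tn A = A * B := Subtype.ext h.ta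
  have τc : cjAut Q t hn.tn C = C := Subtype.ext (by
    show t * c * t⁻¹ = c
    rw [tc.eq, mul_inv_cancel_right])
  have key : ∀ k : Q, Commute k C → cjAut Q t hn.tn B = k * B * k⁻¹ →
      A * B * cjAut Q t hn.tn B = k * α (α (cjAut Q t hn.tn B)) * k⁻¹ →
      cjAut Q t hn.tn * α * (cjAut Q t hn.tn)⁻¹ * α ∈ Inn Q := fun k kc k1 k2 => by
    have e : cjAut Q t hn.tn * α = MulAut.conj k * (α * α) * cjAut Q t hn.tn :=
      MulEquiv.toMonoidHom_injective (Cfg.ext3 gen (by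
        show cjAut Q t hn.tn (α A) = k * α (α (cjAut Q t hn.tn A)) * k⁻¹
        rw [αa, τa, map_mul, αa, αb, Cfg.bab a4 b2 ba, αa, k1]) (by
        show cjAut Q t hn.tn (α B) = k * α (α (cjAut Q t hn.tn B)) * k⁻¹
        rw [αb, map_mul, τa, k2]) (by
        show cjAut Q t hn.tn (α C) = k * α (α (cjAut Q t hn.tn C)) * k⁻¹
        rw [αc, τc, αc, αc, kc.eq, mul_inv_cancel_right]))
    refine ⟨k, ?_⟩
    rw [e, mul_inv_cancel_right, mul_assoc, ← pow_three', α3, mul_one]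
  have zA : ∀ q : Q, Commute (A ^ 2) q ∧ Commute C q := fun q => by
    have : closure ({A, B, C} : Set Q) ≤ centralizer {A ^ 2, C} := (closure_le _).2 (by
      rintro _ (rfl | rfl | rfl) _ (rfl | rfl)
      exacts [((Commute.refl A).pow_left 2).eq, ca.eq, b2 ▸ ((Commute.refl B).pow_left 2).eq, cb.eq,
        (ca.pow_right 2).eq.symm, rfl])
    have k := (gen.ge.trans this) (mem_top q)
    exact ⟨k _ (by simp), k _ (by simp)⟩
  refine ⟨α, ⟨hn, α3, fun e => ?_, ?_⟩, ?_⟩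
  · have e1 : A = B := by rw [← αa, e]; rfl
    have e2 : a = b := congrArg Subtype.val e1
    exact absurd (h.free (-1) 1 0 (by rw [e2]; simp)).2 (by decide)
  · rcases h.tb with e | e
    · have τb : cjAut Q t hn.tn B = B := Subtype.ext e
      refine key B cb.symm (by rw [τb, mul_inv_cancel_right]) ?_
      rw [τb, αb, map_mul, αa, αb, Cfg.bab a4 b2 ba, ba, Cfg.abb a4 b2]
    · have τb : cjAut Q t hn.tn B = B⁻¹ := Subtype.ext e
      refine key (A * B) (ca.mul_right cb).symm (by rw [τb, ← Cfg.ab' a4 b2 ba]; group) ?_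
      rw [τb, map_inv, map_inv, αb, map_mul, αa, αb, Cfg.bab a4 b2 ba,
        show A * B * A⁻¹ * (A * B)⁻¹ = A * (B * A * B⁻¹)⁻¹ * A⁻¹ by group, ba]
      group
  refine hd.imp_right fun hd R hR => ?_
  have i0 : img (autFun (α ^ 0)) R = R := by
    rw [pow_zero, img_congr (g := id) (fun x hx => autFun_one (hR.le hx) :), img_id]
  have c0 : ∀ q : Q, (∀ x : Q, Commute q x) → (q : G) ∉ R →
      ∃ i : ℕ, ¬ centralizer (img (autFun (α ^ i)) R : Set G) ≤ img (autFun (α ^ i)) R :=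
    fun q hq hn => ⟨0, by
      rw [i0]
      exact fun e => hn (e fun x hx => (congrArg Subtype.val (hq ⟨x, hR.le hx⟩).eq).symm)⟩
  rcases hd with e | ⟨d, dQ, db, dc⟩
  · obtain ⟨q, hq, hn⟩ := SetLike.exists_of_lt hR
    have a2 : A ^ 2 = 1 := Subtype.ext e
    have ab : Commute A B := by
      have : A⁻¹ = A := by rw [inv_eq_iff_mul_eq_one, ← sq, a2]
      rw [this, mul_inv_eq_iff_eq_mul] at ba
      exact ba.symm
    refine c0 ⟨q, hq⟩ (fun x => ?_) hn
    have k : ∀ y : Q, Commute y A → Commute y B → Commute y C → ∀ x, Commute y x := fun y h1 h2 h3 x =>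
      ((gen.ge.trans ((closure_le (centralizer {y})).2 (by
        rintro _ (rfl | rfl | rfl) _ rfl
        exacts [h1, h2, h3]))) (mem_top x) y rfl :)
    exact k _ (k A rfl ab ca.symm _).symm (k B ab.symm rfl cb.symm _).symm (zA _).2.symm x
  by_cases h1 : a ^ 2 ∈ R
  swap
  · exact c0 (A ^ 2) (fun x => (zA x).1) h1
  by_cases h2 : c ∈ R
  swap
  · exact c0 C (fun x => (zA x).2) h2
  have wR : closure ({A ^ 2, C} : Set Q) ≤ R.subgroupOf Q := (closure_le _).2 (by
    rintro _ (rfl | rfl)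
    exacts [h1, h2])
  let D : Subgroup Q := (centralizer {d}).subgroupOf Q
  have BD : B ∈ D := mem_centralizer_singleton_iff.2 db.symm.eq
  have fin : ∀ i : ℕ, (a ∈ R → (α ^ i) A ∈ D) → (b ∈ R → (α ^ i) B ∈ D) →
      (a * b ∈ R → (α ^ i) (A * B) ∈ D) →
      ¬ centralizer (img (autFun (α ^ i)) R : Set G) ≤ img (autFun (α ^ i)) R := fun i k1 k2 k3 e => by
    have fx : ∀ x : Q, α x = x → (α ^ i) x = x := fun x hx => by
      clear k1 k2 k3 e
      induction i with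
      | zero => rfl
      | succ n ih => rw [pow_succ, MulAut.mul_apply, hx, ih]
    have wD : closure ({A ^ 2, C} : Set Q) ≤ D.comap (α ^ i).toMonoidHom := (closure_le _).2 (by
      rintro _ (rfl | rfl)
      · show (α ^ i) (A ^ 2) ∈ D
        rw [fx _ (by rw [map_pow, αa, b2]), ← b2]
        exact pow_mem BD 2
      · show (α ^ i) C ∈ D
        rw [fx _ αc]
        exact mem_centralizer_singleton_iff.2 dc.symm.eq)
    refine dQ (img_le_iff.2 (fun x hx => autFun_mem _ (hR.le hx)) (e (le_centralizer_iff.1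
      (show img (autFun (α ^ i)) R ≤ centralizer (zpowers d : Set G) from img_le_iff.2 fun x hx => ?_)
      (mem_zpowers d))))
    rw [autFun_of_mem _ (hR.le hx), zpowers_eq_closure, centralizer_closure]
    show (α ^ i) ⟨x, hR.le hx⟩ ∈ D
    have hx' : (⟨x, hR.le hx⟩ : Q) ∈ R.subgroupOf Q := hx
    obtain ⟨w, hw, e | e | e | e⟩ := dec ⟨x, hR.le hx⟩
    · rw [e]; exact wD hw
    all_goals
      rw [e, mul_mem_cancel_right (wR hw)] at hx'
      rw [e, map_mul]
    exacts [mul_mem (k1 hx') (wD hw), mul_mem (k2 hx') (wD hw), mul_mem (k3 hx') (wD hw)]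
  have two : a ∈ R → b ∈ R → False := fun ha hb => hR.not_ge (h.eq ▸ (closure_le _).2 (by
    rintro _ (rfl | rfl | rfl)
    exacts [ha, hb, h2]))
  by_cases ha : a ∈ R
  · exact ⟨1, fin 1 (fun _ => by rw [pow_one, αa]; exact BD) (fun hb => (two ha hb).elim)
      fun hb => (two ha ((mul_mem_cancel_left ha).1 hb)).elim⟩
  by_cases hb : b ∈ R
  · exact ⟨0, fin 0 (fun e => (ha e).elim) (fun _ => BD)
      fun e => (ha ((mul_mem_cancel_right hb).1 e)).elim⟩
  · exact ⟨2, fin 2 (fun e => (ha e).elim) (fun e => (hb e).elim) fun _ => by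
      rw [sq, MulAut.mul_apply, map_mul α A, αa, αb, Cfg.bab a4 b2 ba, αa]; exact BD⟩

end CL.BC
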