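import Mathlib
import Cfsg.Agent.FUS.BC.Defs

/-!
S5217: the case `K = ⟨a, b⟩ ≰ Φ(G)`.
-/

set_option autoImplicit false

namespace CL.BC

open Subgroup Cfsg CL.Fus CL.Bic
open scoped commutatorElement

variable {G : Type*} [Group G] [Finite G]

variable {A U Q : Subgroup G} {t a b c x : G}

namespace GC

/-- the stabiliser of the coset `a B` in the normaliser of `B` -/
def St (a : G) (B : Subgroup G) : Subgroup G where
  carrier := {h | h ∈ normalizer (B : Set G) ∧ a⁻¹ * (h * a * h⁻¹) ∈ B}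
  one_mem' := ⟨one_mem _, by simp⟩
  mul_mem' := fun {h k} hh hk => ⟨mul_mem hh.1 hk.1, by
    rw [show a⁻¹ * (h * k * a * (h * k)⁻¹) = a⁻¹ * (h * a * h⁻¹) * (h * (a⁻¹ * (k * a * k⁻¹)) * h⁻¹) by group]
    exact mul_mem hh.2 ((mem_normalizer_iff.1 hh.1 _).1 hk.2)⟩
  inv_mem' := fun {h} hh => ⟨inv_mem hh.1, by
    rw [show a⁻¹ * (h⁻¹ * a * h⁻¹⁻¹) = h⁻¹ * (a⁻¹ * (h * a * h⁻¹))⁻¹ * h⁻¹⁻¹ by group]
    exact (mem_normalizer_iff.1 (inv_mem hh.1) _).1 (inv_mem hh.2)⟩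

omit [Finite G] in
theorem mem_St {B : Subgroup G} [B.Normal] {h : G} : h ∈ St a B ↔ a⁻¹ * (h * a * h⁻¹) ∈ B :=
  and_iff_right (le_normalizer_of_normal (mem_top h))

theorem nz {B : Subgroup G} {g : G} (h : B ≤ B.comap (MulAut.conj g).toMonoidHom) : g ∈ normalizer (B : Set G) :=
  mem_normalizer_fintype fun _ hn => h hn

omit [Finite G] in
theorem cmW (a g : G) : a⁻¹ * (g * a * g⁻¹) ∈ commutator G := by
  have := commutator_mem_commutator (mem_top a⁻¹) (mem_top g)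
  rwa [commutatorElement_def, inv_inv, mul_assoc, mul_assoc, ← mul_assoc g] at this

omit [Finite G] in
/-- conjugate elements act alike on the abelian commutator subgroup -/
theorem act (hab : ∀ v ∈ commutator G, ∀ w ∈ commutator G, v * w = w * v) (a g : G) {w : G} (hw : w ∈ commutator G) :
    a * (g * w * g⁻¹) * a⁻¹ = g * (a * w * a⁻¹) * g⁻¹ := by
  have := hab _ (cmW a g⁻¹) _ hw
  calc _ = g * a * (a⁻¹ * (g⁻¹ * a * g⁻¹⁻¹) * w) * (g⁻¹ * a⁻¹) := by group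
    _ = _ := by rw [this]; group

omit [Finite G] in
theorem cyc (h4 : b ^ 4 = 1) {y : G} (hy : y ∈ zpowers b) (y2 : y ^ 2 = 1) : y = 1 ∨ y = b ^ 2 ∨ (b ^ 2 = 1 ∧ y = b) := by
  obtain ⟨i, rfl⟩ := mem_zpowers_iff.1 hy
  have e : b ^ i = b ^ (i % 4) := zpow_eq_zpow_emod' i h4
  rw [e] at y2 ⊢
  rcases (by omega : i % 4 = 0 ∨ i % 4 = 1 ∨ i % 4 = 2 ∨ i % 4 = 3) with k | k | k | k <;> rw [k] at y2 ⊢
  · exact .inl (zpow_zero b)
  · exact .inr (.inr ⟨by simpa using y2, zpow_one b⟩)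
  · exact .inr (.inl (zpow_ofNat b 2))
  · have : b ^ 2 = 1 := by
      rw [← y2, zpow_ofNat, ← pow_mul, show 3 * 2 = 4 + 2 from rfl, pow_add, h4, one_mul]
    exact .inr (.inr ⟨this, by rw [zpow_ofNat, pow_succ, this, one_mul]⟩)

omit [Finite G] in
theorem ab (hq : Q8 Q t a b c) : a * b * a⁻¹ = b⁻¹ := by
  calc _ = a * (b * a * b⁻¹) * (b * (a ^ 2)⁻¹) := by group
    _ = _ := by rw [hq.ba, ← hq.b2]; group

omit [Finite G] in
theorem b4 (hq : Q8 Q t a b c) : b ^ 4 = 1 := by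
  rw [show 4 = 2 * 2 from rfl, pow_mul, hq.b2, ← pow_mul]; exact hq.a4

omit [Finite G] in
theorem bW (hq : Q8 Q t a b c) : b ∈ commutator G := by
  have := cmW a t
  rwa [hq.ta, inv_mul_cancel_left] at this

omit [Finite G] in
theorem le (hq : Q8 Q t a b c) {C : Subgroup G} (ha : a ∈ C) (hb : b ∈ C) (hc : c ∈ C) : Q ≤ C := by
  rw [hq.eq, closure_le]
  rintro _ (rfl | rfl | rfl) <;> assumption

omit [Finite G] in
theorem mem (hq : Q8 Q t a b c) : a ∈ Q ∧ b ∈ Q ∧ c ∈ Q := by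
  rw [hq.eq]
  exact ⟨subset_closure (by simp), subset_closure (by simp), subset_closure (by simp)⟩

end GC

open GC

/-- `W = G'`. `I = {w ∈ W | a w a⁻¹ = w⁻¹}` is a subgroup (`ab`), normal (`h⁻¹ a h ∈ a W` acts on `W` like `a`), and
contains `y = a⁻¹ x a x⁻¹` since `(a y) ^ 2 = x a ^ 2 x⁻¹ = a ^ 2`; `commutator_le_of_pair` gives `W ≤ I`. The set
`X = {y | a y ~ a}` is closed under `y ↦ w⁻² y` (conjugate by `w ∈ W`) and `y ↦ w₀ · x y x⁻¹`, `w₀ = a⁻¹ x a x⁻¹`.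
`W₂ = {w ^ 2}` is normal, `|W : W₂| ≤ 4` (`Gen2.relIndex_le`, `W ≤ A` metacyclic). If `w₁ = x w₀ x⁻¹ ∈ ⟨w₀⟩ W₂` then
`⟨w₀⟩ W₂` is normal, so `= W`, so `W = ⟨w₀⟩` (`exists_index_two` in `W`), against `nc`. So `1, w₀, w₁, w₀ w₁` are the
four cosets, `w₂ = x w₁ x⁻¹ ≡ w₀` (not `1`, not `w₁`; if `≡ w₀ w₁` then `x ^ 3`, so `x`, fixes the coset of `w₀`), and
`1, w₀, w₀ w₁, w₀ w₁ w₂ ∈ X`. -/
theorem conj_cover (h : Amb A U) (hg : closure ({a, x} : Set G) = ⊤) (hz : a ^ 2 ∈ center G) :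
    (∀ w ∈ commutator G, a * w * a⁻¹ = w⁻¹) ∧ ∀ w ∈ commutator G, ∃ g : G, g * a * g⁻¹ = a * w := by
  have nW : (commutator G).Normal := inferInstance
  have cz : ∀ g, g * a ^ 2 = a ^ 2 * g := mem_center_iff.1 hz
  let I : Subgroup G :=
    { carrier := {w | w ∈ commutator G ∧ a * w * a⁻¹ = w⁻¹}
      one_mem' := ⟨one_mem _, by simp⟩
      mul_mem' := fun {v w} hv hw => ⟨mul_mem hv.1 hw.1, by
        rw [h.ab v hv.1 w hw.1, mul_inv_rev, ← hv.2, ← hw.2, ← h.ab v hv.1 w hw.1]; group⟩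
      inv_mem' := fun {w} hw => ⟨inv_mem hw.1, by rw [show a * w⁻¹ * a⁻¹ = (a * w * a⁻¹)⁻¹ by group, hw.2]⟩ }
  have nI : I.Normal := ⟨fun w hw g => ⟨nW.conj_mem w hw.1 g, by rw [act h.ab a g hw.1, hw.2]; group⟩⟩
  have inv : ∀ w ∈ commutator G, a * w * a⁻¹ = w⁻¹ := fun w hw =>
    (commutator_le_of_pair hg (R := I) ⟨commutator_mem_commutator (mem_top _) (mem_top _), by
      calc _ = a ^ 2 * x * (a⁻¹ * x⁻¹ * a⁻¹) := by rw [commutatorElement_def, sq]; group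
        _ = _ := by rw [← cz, commutatorElement_def]; group⟩ hw).2
  refine ⟨inv, fun w hw => ?_⟩
  let W2 : Subgroup G :=
    { carrier := {y | ∃ v ∈ commutator G, v * v = y}
      one_mem' := ⟨1, one_mem _, mul_one _⟩
      mul_mem' := by
        rintro _ _ ⟨u, hu, rfl⟩ ⟨v, hv, rfl⟩
        exact ⟨u * v, mul_mem hu hv, Commute.mul_mul_mul_comm (h.ab v hv u hu) u v⟩
      inv_mem' := by
        rintro _ ⟨u, hu, rfl⟩
        exact ⟨u⁻¹, inv_mem hu, (mul_inv_rev u u).symm⟩ }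
  have n2 : W2.Normal := ⟨by
    rintro _ ⟨u, hu, rfl⟩ g
    exact ⟨_, nW.conj_mem u hu g, by group⟩⟩
  have x2 : x ^ 2 ∉ St a W2 := fun k => h.nc (by
    have w0 := cmW a x
    generalize e0 : a⁻¹ * (x * a * x⁻¹) = w₀ at w0
    have k1 : w₀ * (x * w₀ * x⁻¹) ∈ W2 := by
      have := mem_St.1 k
      rwa [show a⁻¹ * (x ^ 2 * a * (x ^ 2)⁻¹) = a⁻¹ * (x * a * x⁻¹) * (x * (a⁻¹ * (x * a * x⁻¹)) * x⁻¹) by
        rw [sq]; group, e0] at this
    have m0 : w₀ ∈ zpowers w₀ ⊔ W2 := mem_sup_left (mem_zpowers _)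
    have nn : ∀ g, g * w₀ * g⁻¹ ∈ zpowers w₀ ⊔ W2 → g ∈ normalizer ((zpowers w₀ ⊔ W2 : Subgroup G) : Set G) :=
      fun g hg => nz (sup_le (zpowers_le.2 hg) fun v hv => mem_sup_right (n2.conj_mem v hv g))
    have nR : (zpowers w₀ ⊔ W2).Normal := normalizer_eq_top_iff.1 (eq_top_iff.2 (hg ▸ (closure_le _).2 (by
      rintro _ (rfl | rfl)
      · exact nn _ (inv _ w0 ▸ inv_mem m0)
      · exact nn _ ((mul_mem_cancel_left m0).1 (mem_sup_right k1)))))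
    have le := commutator_le_of_pair hg (R := zpowers w₀ ⊔ W2) (by
      have := nR.conj_mem _ (inv_mem m0) a
      rwa [show a * w₀⁻¹ * a⁻¹ = ⁅a, x⁆ by rw [← e0, commutatorElement_def]; group] at this)
    refine isCyclic_iff_exists_zpowers_eq_top.2 ⟨⟨w₀, w0⟩, ?_⟩
    by_contra ne
    obtain ⟨M, hM, iM⟩ := exists_index_two (h.pg.to_subgroup _) ne
    have : commutator G ≤ M.map (commutator G).subtype := le.trans (sup_le
      (zpowers_le.2 ⟨_, hM (mem_zpowers _), rfl⟩) (by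
        rintro _ ⟨u, hu, rfl⟩
        exact ⟨_, mul_self_mem_of_index_two iM ⟨u, hu⟩, rfl⟩))
    have : M = ⊤ := eq_top_iff.2 fun y _ => by
      obtain ⟨y', hy, e⟩ := this y.2
      exact Subtype.ext e ▸ hy
    rw [this, index_top] at iM
    exact absurd iM (by decide))
  have x1 : x ∉ St a W2 := fun k => x2 (pow_mem k 2)
  have x3 : x ^ 3 ∉ St a W2 := fun k => by
    obtain ⟨n, hn⟩ := IsPGroup.iff_orderOf.1 h.pg x
    exact x1 (zpowers_le.2 k (mem_zpowers_pow_iff.2 (by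
      rw [hn]; exact Nat.Coprime.pow_right n (by decide))))
  let f : Fin 4 → commutator G ⧸ W2.subgroupOf (commutator G) := fun i => QuotientGroup.mk ⟨_, cmW a (x ^ (i : ℕ))⟩
  have key : ∀ i d : ℕ, (a⁻¹ * (x ^ i * a * (x ^ i)⁻¹))⁻¹ * (a⁻¹ * (x ^ (i + d) * a * (x ^ (i + d))⁻¹)) ∈ W2 →
      x ^ d ∈ St a W2 := fun i d k => mem_St.2 (by
    have := n2.conj_mem _ k (x ^ i)⁻¹
    rwa [show (x ^ i)⁻¹ * ((a⁻¹ * (x ^ i * a * (x ^ i)⁻¹))⁻¹ * (a⁻¹ * (x ^ (i + d) * a * (x ^ (i + d))⁻¹))) * (x ^ i)⁻¹⁻¹ =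
      a⁻¹ * (x ^ d * a * (x ^ d)⁻¹) by rw [pow_add]; group] at this)
  have lt : ∀ i j : Fin 4, (i : ℕ) < j → f i ≠ f j := fun i j hij e => by
    obtain ⟨d, hd⟩ := Nat.exists_eq_add_of_le hij.le
    have k := key i d (hd ▸ (QuotientGroup.eq.1 e :))
    have := j.2
    rcases (by omega : d = 1 ∨ d = 2 ∨ d = 3) with rfl | rfl | rfl
    exacts [x1 (pow_one x ▸ k), x2 k, x3 k]
  have inj : Function.Injective f := fun i j e => by
    rcases lt_trichotomy (i : ℕ) j with k | k | k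
    exacts [(lt i j k e).elim, Fin.ext k, (lt j i k e.symm).elim]
  have cd : W2.relIndex (commutator G) ≤ 2 ^ 2 := (gen2_of_metacyclic (metacyclic_of_le h.mc h.W_le)).relIndex_le
    (by rintro _ ⟨u, hu, rfl⟩; exact mul_mem hu hu) fun m hm => ⟨m, hm, rfl⟩
  obtain ⟨i, e⟩ := (inj.bijective_of_nat_card_le (by rw [Nat.card_fin]; exact cd)).2 (QuotientGroup.mk ⟨w, hw⟩)
  have e2 := (QuotientGroup.eq (s := W2.subgroupOf (commutator G))).1 e
  obtain ⟨v, hv, e1⟩ : (a⁻¹ * (x ^ (i : ℕ) * a * (x ^ (i : ℕ))⁻¹))⁻¹ * w ∈ W2 := e2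
  have y0 := cmW a (x ^ (i : ℕ))
  refine ⟨v⁻¹ * x ^ (i : ℕ), ?_⟩
  calc _ = v⁻¹ * a * (a⁻¹ * (x ^ (i : ℕ) * a * (x ^ (i : ℕ))⁻¹) * v) := by group
    _ = a * (v * (a⁻¹ * (x ^ (i : ℕ) * a * (x ^ (i : ℕ))⁻¹))) * v := by rw [← inv v hv]; group
    _ = _ := by rw [h.ab v hv _ y0, eq_inv_mul_iff_mul_eq.1 e1 |>.symm]; group

/-- for `g ∈ N(Q) = Q ∪ Q t`: `Q` maps `a` into `{a, a⁻¹}` and `b` into `{b, b⁻¹}` (induction over the generators),
`a⁻¹ = a b⁻²`. -/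
theorem Q8.conj_mem (hq : Q8 Q t a b c) (hn : NQ Q t) {g : G} (hg : g ∈ normalizer (Q : Set G)) :
    a⁻¹ * (g * a * g⁻¹) ∈ zpowers b := by
  have nb : ∀ g, g * b * g⁻¹ ∈ zpowers b → g ∈ normalizer ((zpowers b : Subgroup G) : Set G) :=
    fun g hg => nz (zpowers_le.2 hg)
  have m := mem_zpowers b
  have l : Q ≤ St a (zpowers b) := GC.le hq ⟨nb _ (ab hq ▸ inv_mem m), by simp⟩
    ⟨nb _ (by simp), by
      rw [hq.ba, ← mul_inv_rev, ← sq, ← hq.b2]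
      exact inv_mem (pow_mem m 2)⟩
    ⟨nb _ (by rw [hq.cb.eq]; simp), by rw [hq.ca.eq]; simp⟩
  have ht : t ∈ St a (zpowers b) := ⟨nb _ (hq.tb.elim (fun e => e.symm ▸ m) fun e => e.symm ▸ inv_mem m), by
    rw [hq.ta, inv_mul_cancel_left]; exact m⟩
  exact ((hn.nq g hg).elim (fun k => l k) fun k => (mul_mem_cancel_right (inv_mem ht)).1 (l k) :
    g ∈ St a (zpowers b)).2

/-- `b ∈ W = G'`. For `g ∈ G`, `b' = g b g⁻¹ ∈ W` is inverted by `a` and centralised by `c` (`g⁻¹ a g ∈ a W`,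
`g⁻¹ c g ∈ c W`, `W` abelian) and by `b`; `z' = b' ^ 2` centralises `a, b, c`, so lies in `Q`; `b' a b'⁻¹ = a z'⁻¹`, so
`b'` normalises `Q`, `z' ∈ zpowers b` (`conj_mem`), and `z' = b ^ 2` (both are `1`, or the involution of `⟨b⟩`). -/
theorem Q8.sq_mem_center (hq : Q8 Q t a b c) (hn : NQ Q t)
    (hab : ∀ v ∈ commutator G, ∀ w ∈ commutator G, v * w = w * v) : a ^ 2 ∈ center G := by
  rw [← hq.b2, mem_center_iff]
  intro g
  have bW := bW hq
  have w' := (inferInstance : (commutator G).Normal).conj_mem b bW g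
  have e1 : a * (g * b * g⁻¹) * a⁻¹ = (g * b * g⁻¹)⁻¹ := by rw [act hab a g bW, ab hq]; group
  have e2 : Commute c (g * b * g⁻¹) := by
    have := act hab c g bW
    rw [hq.cb.eq, mul_inv_cancel_right b] at this
    exact mul_inv_eq_iff_eq_mul.1 this
  have e3 : Commute b (g * b * g⁻¹) := hab _ bW _ w'
  have e4 : (g * b * g⁻¹) ^ 2 = g * b ^ 2 * g⁻¹ := conj_pow
  have e5 : ((g * b * g⁻¹) ^ 2) ^ 2 = 1 := by rw [← pow_mul, conj_pow, b4 hq]; group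
  generalize g * b * g⁻¹ = b' at e1 e2 e3 e4 e5
  have e6 : Commute a (b' ^ 2) := by
    have : a * b' ^ 2 * a⁻¹ = b' ^ 2 := by
      rw [← conj_pow, e1, inv_pow, inv_eq_iff_mul_eq_one, ← sq, e5]
    exact mul_inv_eq_iff_eq_mul.1 this
  have zQ : b' ^ 2 ∈ Q := hn.cent (mem_centralizer_iff.2 fun q hq' => mem_centralizer_singleton_iff.1
    (GC.le hq (C := centralizer {b' ^ 2}) (mem_centralizer_singleton_iff.2 e6)
      (mem_centralizer_singleton_iff.2 (e3.pow_right 2)) (mem_centralizer_singleton_iff.2 (e2.pow_right 2)) hq'))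
  have e7 : b' * a * b'⁻¹ = a * b' ^ 2 := by
    calc _ = b' * (a * b' * a⁻¹)⁻¹ * a := by group
      _ = _ := by rw [e1, inv_inv, ← sq, e6.eq]
  obtain ⟨aQ, bQ, cQ⟩ := GC.mem hq
  have k := hq.conj_mem hn (g := b') (nz (GC.le hq (show b' * a * b'⁻¹ ∈ Q from e7 ▸ mul_mem aQ zQ)
    (show b' * b * b'⁻¹ ∈ Q by rw [← e3.eq]; simpa using bQ) (show b' * c * b'⁻¹ ∈ Q by rw [← e2.eq]; simpa using cQ)))
  rw [e7, inv_mul_cancel_left] at k
  rcases cyc (b4 hq) k e5 with k | k | ⟨k, -⟩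
  · rw [e4, conj_eq_one_iff] at k
    rw [k, mul_one, one_mul]
  · exact mul_inv_eq_iff_eq_mul.1 (e4.symm.trans k)
  · rw [k, mul_one, one_mul]

/-- `Q ≤ T` of index 2 (`exists_index_two`, `t ∉ Q`), `x ∉ T`, `closure {a, x} = ⊤`. `z = a ^ 2` central, `Z = zpowers z`.
`a` inverts `W`, so `T = A ∪ a A` centralises `U`. `U' = {w ∈ W | w ^ 2 ∈ Z} = U ∪ U b`. `C = {h | a⁻¹ h a h⁻¹ ∈ Z ∧
∀ w ∈ U', w⁻¹ h w h⁻¹ ∈ Z}` is a subgroup containing `a, b, c`, not `t` (`free`), so `C = Q` (`le_of_normalizer`).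
Take `u ∈ U ∖ zpowers b` (`cardU`; a cyclic group has one involution) and `g a g⁻¹ = a u` (`conj_cover`): `g`
normalises `C`, so `u ∈ zpowers b` (`conj_mem`). -/
theorem false_of_Q8_not_mem (h : Amb A U) (hn : NQ Q t) (hq : Q8 Q t a b c) (ha : a ∉ A) : False := by
  obtain ⟨aQ, bQ, cQ⟩ := GC.mem hq
  obtain ⟨T, QT, iT⟩ := exists_index_two h.pg (A := Q) fun e => hn.tq (e ▸ mem_top t)
  obtain ⟨x, hx⟩ : ∃ x, x ∉ T := by
    by_contra! k
    rw [show T = ⊤ from eq_top_iff.2 fun x _ => k x, index_top] at iT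
    exact absurd iT (by decide)
  have hz := hq.sq_mem_center hn h.ab
  obtain ⟨inv, cov⟩ := conj_cover h (h.gen T iT a (QT aQ) ha x hx) hz
  have nZ : (zpowers (a ^ 2)).Normal := normal_of_le_center (zpowers_le.2 hz)
  have nW : (commutator G).Normal := inferInstance
  have bW := bW hq
  have mz := mem_zpowers (a ^ 2)
  have cU : ∀ u ∈ U, Commute c u := fun u hu => by
    rcases h.half T iT a (QT aQ) ha c (QT cQ) with k | k
    · exact h.cenU c k u hu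
    · have e : Commute a u := by
        have := inv u (h.U_le hu)
        rw [inv_eq_of_mul_eq_one_left ((sq u).symm.trans ((h.memU u).1 hu).2)] at this
        exact mul_inv_eq_iff_eq_mul.1 this
      simpa using e.mul_left (show Commute (a⁻¹ * c) u from h.cenU _ k u hu)
  let C : Subgroup G := St a (zpowers (a ^ 2)) ⊓
    ⨅ w ∈ {w | w ∈ commutator G ∧ w ^ 2 ∈ zpowers (a ^ 2)}, St w (zpowers (a ^ 2))
  have mC : ∀ {g}, g ∈ C ↔ a⁻¹ * (g * a * g⁻¹) ∈ zpowers (a ^ 2) ∧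
      ∀ w, w ∈ commutator G ∧ w ^ 2 ∈ zpowers (a ^ 2) → w⁻¹ * (g * w * g⁻¹) ∈ zpowers (a ^ 2) := by
    simp only [C, mem_inf, mem_iInf, mem_St, Set.mem_ofPred_eq, implies_true]
  have QC : Q ≤ C := GC.le hq
    (mC.2 ⟨by simp, fun w hw => by rw [inv w hw.1, ← mul_inv_rev, ← sq]; exact inv_mem hw.2⟩)
    (mC.2 ⟨by rw [hq.ba, ← mul_inv_rev, ← sq]; exact inv_mem mz, fun w hw => by rw [h.ab b bW w hw.1]; simp⟩)
    (mC.2 ⟨by rw [hq.ca.eq]; simp, fun w hw => by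
      have : Commute c w := by
        have z2 : (a ^ 2) ^ 2 = 1 := by rw [← pow_mul]; exact hq.a4
        obtain ⟨i, hi⟩ := mem_zpowers_iff.1 hw.2
        rw [zpow_eq_zpow_emod' i z2] at hi
        rcases (by omega : i % ((2 : ℕ) : ℤ) = 0 ∨ i % ((2 : ℕ) : ℤ) = 1) with k | k <;> rw [k] at hi
        · exact cU w ((h.memU w).2 ⟨h.W_le hw.1, hi.symm.trans (zpow_zero _)⟩)
        · have cm : Commute w b⁻¹ := Commute.inv_right (h.ab w hw.1 b bW)
          have := cU (w * b⁻¹) ((h.memU _).2 ⟨h.W_le (mul_mem hw.1 (inv_mem bW)), by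
            rw [cm.mul_pow, inv_pow, hq.b2, ← hi, zpow_one, mul_inv_cancel]⟩)
          simpa using this.mul_right hq.cb
      rw [this.eq]; simp⟩)
  have tC : t ∉ C := fun k => by
    have := (mC.1 k).1
    rw [hq.ta, inv_mul_cancel_left] at this
    obtain ⟨i, hi⟩ := mem_zpowers_iff.1 this
    exact absurd (hq.free (-(2 * i)) 1 0 (by rw [← hi, ← zpow_natCast]; group)).2 (by decide)
  have CQ : C = Q := le_antisymm (le_of_normalizer h.pg QC fun g hg k => (hn.nq g k).resolve_right fun k =>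
    tC (inv_mem_iff.1 ((mul_mem_cancel_left hg).1 (QC k)))) QC
  obtain ⟨s, hs⟩ : ∃ s, ∀ y ∈ zpowers b, y ^ 2 = 1 → y = 1 ∨ y = s := by
    by_cases k : b ^ 2 = 1
    · exact ⟨b, fun y hy y2 => (cyc (b4 hq) hy y2).elim .inl fun e => e.elim (fun e => .inl (e.trans k)) fun e => .inr e.2⟩
    · exact ⟨b ^ 2, fun y hy y2 => (cyc (b4 hq) hy y2).imp_right fun e => e.resolve_right fun e => k e.1⟩
  obtain ⟨u, hu, ub⟩ : ∃ u ∈ U, u ∉ zpowers b := by
    by_contra! k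
    have : (U : Set G) ⊆ {1, s} := fun u hu => hs u (k u hu) ((h.memU u).1 hu).2
    have k := (Set.ncard_le_ncard this).trans (Set.ncard_insert_le 1 {s})
    rw [Set.ncard_singleton, ← Nat.card_coe_set_eq, show Nat.card (U : Set G) = 4 from h.cardU] at k
    omega
  obtain ⟨g, hg⟩ := cov u (h.U_le hu)
  have gn : g⁻¹ ∈ normalizer (C : Set G) := nz fun k hk => mC.2 ⟨by
    obtain ⟨k1, k2⟩ := mC.1 hk
    have k3 := mul_mem (nZ.conj_mem _ k1 u⁻¹) (k2 u ⟨h.U_le hu, ((h.memU u).1 hu).2 ▸ one_mem _⟩)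
    have k4 := nZ.conj_mem _ k3 g⁻¹
    rw [show u = a⁻¹ * (g * a * g⁻¹) by rw [hg]; group] at k4
    convert k4 using 1
    simp only [MulEquiv.coe_toMonoidHom, MulAut.conj_apply]
    group, fun w hw => by
    have k4 := nZ.conj_mem _ ((mC.1 hk).2 (g * w * g⁻¹) ⟨nW.conj_mem w hw.1 g, by rw [conj_pow]; exact nZ.conj_mem _ hw.2 g⟩) g⁻¹
    convert k4 using 1
    simp only [MulEquiv.coe_toMonoidHom, MulAut.conj_apply]
    group⟩
  have := hq.conj_mem hn (g := g) (inv_mem_iff.1 (CQ ▸ gn))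
  rw [hg, inv_mul_cancel_left] at this
  exact ub this

end CL.BC
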