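import Mathlib
import Cfsg.Agent.FUS.BC.Defs
import Cfsg.Agent.FUS.BC.Amb

/-!
S5217: the cases `Ω₁(K) ≤ Φ(G)`.
-/

set_option autoImplicit false

namespace CL.BC

open Subgroup Cfsg CL.Fus CL.Bic
open scoped commutatorElement

variable {G : Type*} [Group G] [Finite G]

variable {A U Q K R : Subgroup G} {t a b c u v : G}

namespace GH

omit [Finite G] in
theorem four (hc : Nat.card U = 4) (hu : u ∈ U) (hv : v ∈ U) (u1 : u ≠ 1) (v1 : v ≠ 1) (uv : u ≠ v)
    (u2 : u ^ 2 = 1) {w : G} (hw : w ∈ U) : w = 1 ∨ w = u ∨ w = v ∨ w = u * v := by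
  classical
  have n1 : u * v ≠ 1 := fun e => uv (mul_left_cancel (a := u) (by rw [e, ← sq, u2]))
  have n2 : u * v ≠ u := fun e => v1 (mul_left_cancel (a := u) (by rw [e, mul_one]))
  have n3 : u * v ≠ v := fun e => u1 (mul_right_cancel (b := v) (by rw [e, one_mul]))
  have hf : (U : Set G).Finite := Nat.finite_of_card_ne_zero (by change Nat.card U ≠ 0; rw [hc]; norm_num)
  have e : (({1, u, v, u * v} : Finset G) : Set G) = U := by
    refine Set.eq_of_subset_of_ncard_le ?_ ?_ hf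
    · intro x hx
      simp only [Finset.coe_insert, Finset.coe_singleton, Set.mem_insert_iff, Set.mem_singleton_iff] at hx
      rcases hx with rfl | rfl | rfl | rfl
      exacts [U.one_mem, hu, hv, U.mul_mem hu hv]
    · rw [Set.ncard_coe_finset, Finset.card_insert_of_notMem (by simp [u1.symm, v1.symm, n1.symm]),
        Finset.card_insert_of_notMem (by simp [uv, n2.symm]), Finset.card_pair n3.symm]
      exact le_of_eq hc
  have : w ∈ (({1, u, v, u * v} : Finset G) : Set G) := by rw [e]; exact hw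
  simpa using this

omit [Finite G] in
theorem nf (h : Commute a b) {x : G} (hx : x ∈ closure ({a, b} : Set G)) : ∃ i j : ℤ, x = a ^ i * b ^ j := by
  induction hx using closure_induction with
  | mem x hx =>
    rcases hx with rfl | rfl
    · exact ⟨1, 0, by simp⟩
    · exact ⟨0, 1, by simp⟩
  | one => exact ⟨0, 0, by simp⟩
  | mul x y _ _ hx hy =>
    obtain ⟨i, j, rfl⟩ := hx
    obtain ⟨k, l, rfl⟩ := hy
    exact ⟨i + k, j + l, by
      rw [zpow_add, zpow_add, (h.zpow_zpow k j).mul_mul_mul_comm]⟩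
  | inv x _ hx =>
    obtain ⟨i, j, rfl⟩ := hx
    exact ⟨-i, -j, by rw [zpow_neg, zpow_neg, (h.zpow_zpow i j).mul_inv]⟩

omit [Finite G] in
theorem ev {x : G} (h : x ^ 2 = 1) {i : ℤ} (hi : Even i) : x ^ i = 1 := by
  obtain ⟨k, rfl⟩ := hi
  rw [← two_mul, zpow_mul, zpow_ofNat, h, one_zpow]

omit [Finite G] in
theorem sq_mem (a4 : a ^ 4 = 1) (b2 : b ^ 2 = a ^ 2) (ba : b * a * b⁻¹ = a⁻¹) (ua : Commute u a)
    (ub : Commute u b) (u2 : u ^ 2 = 1) {x : G} (hx : x ∈ closure ({a, b, u} : Set G)) :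
    x * x = 1 ∨ x * x = a ^ 2 := by
  have zz : a ^ 2 * a ^ 2 = 1 := by rw [← pow_add, a4]
  have za : Commute (a ^ 2) a := (Commute.refl a).pow_left 2
  have zb : Commute (a ^ 2) b := b2 ▸ (Commute.refl b).pow_left 2
  have zu : Commute (a ^ 2) u := ua.symm.pow_left 2
  have ai : a⁻¹ = a * a ^ 2 := by rw [inv_eq_iff_mul_eq_one, ← a4]; group
  have ba' : b * a = a⁻¹ * b := by rw [← ba]; group
  let D : G → Prop := fun e => e * e = 1 ∧ Commute e a ∧ Commute e b ∧ Commute e u
  have Dz : ∀ e, D e → D (a ^ 2 * e) := fun e he =>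
    ⟨by rw [(he.2.1.pow_right 2).mul_mul_mul_comm, zz, he.1, one_mul], za.mul_left he.2.1, zb.mul_left he.2.2.1,
      zu.mul_left he.2.2.2⟩
  have Du : ∀ e, D e → D (u * e) := fun e he =>
    ⟨by rw [he.2.2.2.mul_mul_mul_comm, ← sq, u2, he.1, one_mul], ua.mul_left he.2.1, ub.mul_left he.2.2.1,
      (Commute.refl u).mul_left he.2.2.2⟩
  let N : G → Prop := fun x => ∃ e, D e ∧ (x = e ∨ x = a * e ∨ x = b * e ∨ x = a * b * e)
  have La : ∀ y, N y → N (a * y) := by
    rintro y ⟨e, he, rfl | rfl | rfl | rfl⟩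
    · exact ⟨y, he, Or.inr (Or.inl rfl)⟩
    · exact ⟨_, Dz e he, Or.inl (by rw [sq, mul_assoc])⟩
    · exact ⟨e, he, Or.inr (Or.inr (Or.inr (mul_assoc _ _ _).symm))⟩
    · exact ⟨_, Dz e he, Or.inr (Or.inr (Or.inl (by rw [← mul_assoc b, ← zb.eq, sq]; group)))⟩
  have Lb : ∀ y, N y → N (b * y) := by
    rintro y ⟨e, he, rfl | rfl | rfl | rfl⟩
    · exact ⟨y, he, Or.inr (Or.inr (Or.inl rfl))⟩
    · exact ⟨_, Dz e he, Or.inr (Or.inr (Or.inr (by
        rw [← mul_assoc, ba', ai, mul_assoc a, zb.eq]; group)))⟩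
    · exact ⟨_, Dz e he, Or.inl (by rw [← b2, sq, mul_assoc])⟩
    · exact ⟨e, he, Or.inr (Or.inl (by
        rw [← mul_assoc, ← mul_assoc, ba', mul_assoc a⁻¹, ← sq, b2]; group))⟩
  have Lu : ∀ y, N y → N (u * y) := by
    rintro y ⟨e, he, rfl | rfl | rfl | rfl⟩
    · exact ⟨_, Du y he, Or.inl rfl⟩
    · exact ⟨_, Du e he, Or.inr (Or.inl (by rw [← mul_assoc, ua.eq, mul_assoc]))⟩
    · exact ⟨_, Du e he, Or.inr (Or.inr (Or.inl (by rw [← mul_assoc, ub.eq, mul_assoc])))⟩
    · exact ⟨_, Du e he, Or.inr (Or.inr (Or.inr (by rw [← mul_assoc, (ua.mul_right ub).eq, mul_assoc])))⟩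
  have key : N x := by
    induction hx using closure_induction_left with
    | one => exact ⟨1, ⟨mul_one 1, Commute.one_left _, Commute.one_left _, Commute.one_left _⟩, Or.inl rfl⟩
    | mul_left x hx y _ ih =>
      rcases hx with rfl | rfl | rfl
      exacts [La y ih, Lb y ih, Lu y ih]
    | inv_mul_cancel x hx y _ ih =>
      rcases hx with rfl | rfl | rfl
      · have := La _ (La _ (La y ih))
        rwa [show x * (x * (x * y)) = x⁻¹ * y by rw [ai, sq, mul_assoc, mul_assoc]] at this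
      · have := Lb _ (Lb _ (Lb y ih))
        have bi : x⁻¹ = x * x ^ 2 := by rw [inv_eq_iff_mul_eq_one, ← mul_assoc, ← sq, b2, zz]
        rwa [show x * (x * (x * y)) = x⁻¹ * y by rw [bi, sq, mul_assoc, mul_assoc]] at this
      · have := Lu y ih
        rwa [show x⁻¹ = x by rw [inv_eq_iff_mul_eq_one, ← sq, u2]]
  obtain ⟨e, he, rfl | rfl | rfl | rfl⟩ := key
  · exact Or.inl he.1
  · exact Or.inr (by rw [he.2.1.mul_mul_mul_comm, he.1, mul_one, sq])
  · exact Or.inr (by rw [he.2.2.1.mul_mul_mul_comm, he.1, mul_one, ← sq, b2])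
  · refine Or.inr ?_
    rw [(he.2.1.mul_right he.2.2.1).mul_mul_mul_comm, he.1, mul_one, mul_assoc, ← mul_assoc b, ba', ← b2, sq,
      mul_assoc, mul_inv_cancel_left]

end GH

/-- `U = {1, u, v, u v}` (`memU`, `cardU`), `C = C(U)`: `Q ≤ C`, `t ∉ C`, so `C ≤ Q` (`le_of_normalizer`, `nq`) and
`Q.index = 2` (`idxC`), `A ≤ Q`, every element is `q` or `q t`, `R` is normal. If `c ∉ A`: `closure {c, t} = ⊤`
(`gen`), `G' ≤ R` (`commutator_le_of_pair`), against `tq`. If `c = 1`: `Q = K` is abelian, take `q ∈ Q ∖ A` (`idx`),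
`cyclic_of_abelian`. Otherwise an involution in `zpowers c ≤ A` lies in `U ≤ K`, against `disj`. -/
theorem false_of_HM (h : Amb A U) (hn : NQ Q t) (hr : RD Q t c R) (hk : HM Q t c K u v) (hu : u ∈ A)
    (hv : v ∈ A) : False := by
  have uU : u ∈ U := (h.memU u).2 ⟨hu, hk.u2⟩
  have vU : v ∈ U := (h.memU v).2 ⟨hv, hk.v2⟩
  have f := fun w (hw : w ∈ U) => GH.four h.cardU uU vU hk.u1 hk.v1 hk.uv hk.u2 hw
  have QC : Q ≤ centralizer (U : Set G) := by
    intro q hq
    refine mem_centralizer_iff.2 fun w hw => ?_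
    obtain ⟨h1, h2⟩ := hk.cen q hq
    rcases f w hw with rfl | rfl | rfl | rfl
    · simp
    · exact h1.symm
    · exact h2.symm
    · exact (h1.mul_right h2).symm
  have tC : t ∉ centralizer (U : Set G) := fun ht =>
    hk.ncen ⟨(mem_centralizer_iff.1 ht u uU).symm, (mem_centralizer_iff.1 ht v vU).symm⟩
  have CQ : centralizer (U : Set G) ≤ Q := by
    refine le_of_normalizer h.pg QC fun g hg hN => (hn.nq g hN).resolve_right fun e => tC ?_
    have := mul_mem (inv_mem (QC e)) hg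
    rwa [mul_inv_rev, inv_inv, inv_mul_cancel_right] at this
  have e : Q = centralizer (U : Set G) := le_antisymm QC CQ
  have idx : Q.index = 2 := by
    have h1 := h.idxC
    rw [← e] at h1
    have h2 : Q.index ≠ 0 := index_ne_zero_of_finite
    have h3 : Q.index ≠ 1 := fun e => hn.tq (by rw [index_eq_one.1 e]; exact mem_top t)
    omega
  have AQ := h.le Q idx
  have Qn := normal_of_index_eq_two idx
  have Rn : R.Normal := by
    rw [← normalizer_eq_top_iff, eq_top_iff]
    intro g _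
    rcases hn.nq g (by rw [normalizer_eq_top]; exact mem_top g) with e | e
    · exact hr.Qn e
    · have := mul_mem (hr.Qn e) hr.tn
      rwa [inv_mul_cancel_right] at this
  by_cases cA : c ∈ A
  · by_cases c1 : c = 1
    · have QK : ∀ q ∈ Q, q ∈ K := fun q hq => by
        obtain ⟨k, hk', i, rfl⟩ := hk.gen q hq
        rwa [c1, one_zpow, mul_one]
      have : ¬ Q ≤ A := fun l => by
        have := h.idx
        rw [le_antisymm AQ l, idx] at this
        omega
      obtain ⟨q, hq, qA⟩ := SetLike.not_le_iff_exists.1 this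
      exact h.nc (cyclic_of_abelian idx (fun x hx y hy => hk.comm x (QK x hx) y (QK y hy)) hq
        (h.gen Q idx q hq qA t hn.tq))
    · obtain ⟨⟨w, hw⟩, ow⟩ := exists_prime_orderOf_dvd_card' 2
        (((h.pg.to_subgroup (zpowers c)).card_eq_or_dvd).resolve_left fun e =>
          c1 (zpowers_eq_bot.1 (card_eq_one.1 e)))
      rw [← orderOf_coe] at ow
      change orderOf w = 2 at ow
      have wU : w ∈ U := (h.memU w).2 ⟨zpowers_le.2 cA hw, by rw [← ow, pow_orderOf_eq_one]⟩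
      have wK : w ∈ K := by
        rcases f w wU with rfl | rfl | rfl | rfl
        exacts [K.one_mem, hk.uK, hk.vK, K.mul_mem hk.uK hk.vK]
      obtain ⟨i, rfl⟩ := mem_zpowers_iff.1 hw
      rw [hk.disj i wK, orderOf_one] at ow
      omega
  · have h1 : ⁅c, t⁆ ∈ R := by
      rw [← commutatorElement_inv]
      exact inv_mem hr.tc
    obtain ⟨q, -, hq⟩ := hr.tq
    exact hq (commutator_le_of_pair (h.gen Q idx c hr.cQ cA t hn.tq) h1
      (commutator_mem_commutator (mem_top t) (mem_top q)))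

/-- `K = closure {a, b}`; `Commute t a` would give `b = 1`. -/
theorem Q8.hm (h : Q8 Q t a b c) (h2 : a ^ 2 = 1) : HM Q t c (closure ({a, b} : Set G)) a b := by
  have b2 : b ^ 2 = 1 := h.b2.trans h2
  have ai : a⁻¹ = a := by rw [inv_eq_iff_mul_eq_one, ← sq, h2]
  have ab : Commute a b := by
    have := h.ba
    rw [ai, mul_inv_eq_iff_eq_mul] at this
    exact this.symm
  have b1 : b ≠ 1 := fun e => by simpa using (h.free 0 1 0 (by simp [e])).2
  have cK : ∀ k ∈ closure ({a, b} : Set G), Commute c k := fun k hk => by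
    obtain ⟨i, j, rfl⟩ := GH.nf ab hk
    exact (h.ca.zpow_right i).mul_right (h.cb.zpow_right j)
  refine ⟨?_, ?_, ?_, ?_, subset_closure (by simp), subset_closure (by simp), ?_, b1, ?_, h2, b2, ?_, ?_⟩
  · rw [h.eq]
    exact closure_mono (by intro x hx; rcases hx with rfl | rfl <;> simp)
  · intro x hx y hy
    obtain ⟨i, j, rfl⟩ := GH.nf ab hx
    obtain ⟨k, l, rfl⟩ := GH.nf ab hy
    exact (((Commute.refl a).zpow_zpow i k).mul_right (ab.zpow_zpow i l)).mul_left
      ((ab.symm.zpow_zpow j k).mul_right ((Commute.refl b).zpow_zpow j l))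
  · intro q hq
    rw [h.eq] at hq
    induction hq using closure_induction with
    | mem x hx =>
      rcases hx with rfl | rfl | rfl
      · exact ⟨x, subset_closure (by simp), 0, by simp⟩
      · exact ⟨x, subset_closure (by simp), 0, by simp⟩
      · exact ⟨1, one_mem _, 1, by simp⟩
    | one => exact ⟨1, one_mem _, 0, by simp⟩
    | mul x y _ _ hx hy =>
      obtain ⟨k, hk, i, rfl⟩ := hx
      obtain ⟨l, hl, j, rfl⟩ := hy
      exact ⟨k * l, mul_mem hk hl, i + j, by rw [zpow_add, ((cK l hl).zpow_left i).mul_mul_mul_comm]⟩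
    | inv x _ hx =>
      obtain ⟨k, hk, i, rfl⟩ := hx
      exact ⟨k⁻¹, inv_mem hk, -i, by rw [zpow_neg, ((cK k hk).zpow_left i).symm.mul_inv]⟩
  · intro i hi
    obtain ⟨j, k, e⟩ := GH.nf ab hi
    obtain ⟨hj, hk⟩ := h.free j k i e.symm
    rw [e, GH.ev h2 hj, GH.ev b2 hk, mul_one]
  · exact fun e => by simpa using (h.free 1 0 0 (by simp [e])).1
  · exact fun e => by simpa using (h.free 1 (-1) 0 (by simp [e])).1
  · intro q hq
    rw [h.eq] at hq
    induction hq using closure_induction with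
    | mem x hx =>
      rcases hx with rfl | rfl | rfl
      exacts [⟨Commute.refl _, ab⟩, ⟨ab.symm, Commute.refl _⟩, ⟨h.ca, h.cb⟩]
    | one => exact ⟨Commute.one_left _, Commute.one_left _⟩
    | mul x y _ _ hx hy => exact ⟨hx.1.mul_left hy.1, hx.2.mul_left hy.2⟩
    | inv x _ hx => exact ⟨hx.1.inv_left, hx.2.inv_left⟩
  · rintro ⟨h1, -⟩
    have := h.ta
    rw [h1.eq, mul_inv_cancel_right] at this
    exact b1 (mul_left_cancel (a := a) (by rw [← this, mul_one]))

/-- `b = a⁻¹ t a t⁻¹ ∈ G' ≤ A`. Take `u ∈ U ∖ {1, a ^ 2}`; `H = closure {a, b, u} ≤ A` is metacyclic, so `Gen2`; all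
squares of `H` lie in `B = zpowers (a ^ 2) = {1, a ^ 2}` (elements are `a ^ i b ^ j u ^ k`), so `B.relIndex H ≤ 4`
(`Gen2.relIndex_le`), but `1, a, b, a b, u` are pairwise incongruent modulo `B` (`a, b, a b` have square `a ^ 2 ≠ 1`;
`free` with `k = 0`). -/
theorem false_of_Q8_mem (h : Amb A U) (hq : Q8 Q t a b c) (ha : a ∈ A) (h2 : a ^ 2 ≠ 1) : False := by
  classical
  have hb : b ∈ A := by
    have : b = ⁅a⁻¹, t⁆ := by
      rw [commutatorElement_def, inv_inv, mul_assoc, mul_assoc, ← mul_assoc t, hq.ta, inv_mul_cancel_left]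
    rw [this]
    exact h.W_le (commutator_mem_commutator (mem_top _) (mem_top _))
  obtain ⟨u, uU, u1, uz⟩ : ∃ u ∈ U, u ≠ 1 ∧ u ≠ a ^ 2 := by
    by_contra hn
    push Not at hn
    have : (U : Set G) ⊆ ({1, a ^ 2} : Set G) := fun w hw => by
      by_cases e : w = 1
      · exact Or.inl e
      · exact Or.inr (hn w hw e)
    have h1 := Set.ncard_le_ncard this
    have h3 : (U : Set G).ncard = 4 := h.cardU
    have h4 := Set.ncard_insert_le (1 : G) {a ^ 2}
    rw [Set.ncard_singleton] at h4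
    omega
  obtain ⟨uA, u2⟩ := (h.memU u).1 uU
  have ua : Commute u a := (h.cenU a ha u uU).symm
  have ub : Commute u b := (h.cenU b hb u uU).symm
  set H := closure ({a, b, u} : Set G) with hH
  have aH : a ∈ H := subset_closure (by simp)
  have bH : b ∈ H := subset_closure (by simp)
  have uH : u ∈ H := subset_closure (by simp)
  have HA : H ≤ A := (closure_le _).2 (by rintro x (rfl | rfl | rfl) <;> assumption)
  have zz : (a ^ 2) ^ 2 = 1 := by rw [← pow_mul]; exact hq.a4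
  have oz : orderOf (a ^ 2) = 2 := orderOf_eq_prime zz h2
  have mB : ∀ x ∈ zpowers (a ^ 2), x = 1 ∨ x = a ^ 2 := fun x hx => by
    obtain ⟨i, rfl⟩ := mem_zpowers_iff.1 hx
    rcases Int.even_or_odd i with e | ⟨k, rfl⟩
    · exact Or.inl (GH.ev zz e)
    · exact Or.inr (by rw [zpow_add, GH.ev zz (even_two_mul k), one_mul, zpow_one])
  have h1 := (gen2_of_metacyclic (metacyclic_of_le h.mc HA)).relIndex_le (B := zpowers (a ^ 2))
    (zpowers_le.2 (pow_mem aH 2)) fun m hm => by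
      rcases GH.sq_mem hq.a4 hq.b2 hq.ba ua ub u2 hm with e | e <;> rw [e]
      exacts [one_mem _, mem_zpowers _]
  have nB : ∀ x : G, x * x = a ^ 2 → x ∉ zpowers (a ^ 2) := fun x e hx => by
    rcases mB x hx with rfl | e'
    · exact h2 (by rw [← e, mul_one])
    · rw [e', ← sq, zz] at e
      exact h2 e.symm
  have ba' : b * a = a⁻¹ * b := by rw [← hq.ba]; group
  have ba2 : b * a⁻¹ = a * b := by
    have : b * a⁻¹ * b⁻¹ = a := by rw [← conj_inv, hq.ba, inv_inv]
    rw [← mul_inv_eq_iff_eq_mul, this]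
  have zi : (a ^ 2)⁻¹ = a ^ 2 := by rw [inv_eq_iff_mul_eq_one, ← sq, zz]
  have uu : u * u = 1 := by rw [← sq, u2]
  have s1 : a * a = a ^ 2 := (sq a).symm
  have s2 : b * b = a ^ 2 := by rw [← sq, hq.b2]
  have s3 : a * b * (a * b) = a ^ 2 := by
    rw [mul_assoc, ← mul_assoc b, ba', mul_assoc, s2, mul_inv_cancel_left]
  have s4 : a⁻¹ * b * (a⁻¹ * b) = a ^ 2 := by
    rw [mul_assoc, ← mul_assoc b, ba2, mul_assoc, s2, inv_mul_cancel_left]
  have s5 : b⁻¹ * (a * b) * (b⁻¹ * (a * b)) = a ^ 2 := by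
    have : Commute (a ^ 2) b := hq.b2 ▸ (Commute.refl b).pow_left 2
    calc _ = b⁻¹ * (a ^ 2 * b) := by rw [sq]; group
      _ = a ^ 2 := by rw [this.eq, inv_mul_cancel_left]
  have su : ∀ x : G, Commute u x → x * x = a ^ 2 → x⁻¹ * u ∉ zpowers (a ^ 2) := fun x c e => by
    apply nB
    rw [c.inv_right.mul_mul_mul_comm, uu, mul_one, ← mul_inv_rev, e, zi]
  have n1 := nB _ s1
  have n2 := nB _ s2
  have n3 := nB _ s3
  have n4 := nB _ s4
  have n5 := nB _ s5
  have n6 := su _ ua s1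
  have n7 := su _ ub s2
  have n8 := su _ (ua.mul_right ub) s3
  have n9 : u ∉ zpowers (a ^ 2) := fun e => (mB u e).elim u1 uz
  let q : H → H ⧸ (zpowers (a ^ 2)).subgroupOf H := QuotientGroup.mk
  have hq' : ∀ x y : H, (x : G)⁻¹ * y ∉ zpowers (a ^ 2) → q x ≠ q y := fun x y n e =>
    n (by simpa [mem_subgroupOf] using QuotientGroup.eq.1 e)
  have := Fintype.ofFinite (H ⧸ (zpowers (a ^ 2)).subgroupOf H)
  have h5 : ({q 1, q ⟨a, aH⟩, q ⟨b, bH⟩, q ⟨a * b, mul_mem aH bH⟩, q ⟨u, uH⟩} : Finset _).card = 5 := by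
    rw [Finset.card_insert_of_notMem, Finset.card_insert_of_notMem, Finset.card_insert_of_notMem,
      Finset.card_pair (hq' _ _ n8)]
    · simp only [Finset.mem_insert, Finset.mem_singleton, not_or]
      exact ⟨hq' _ _ n5, hq' _ _ n7⟩
    · simp only [Finset.mem_insert, Finset.mem_singleton, not_or]
      exact ⟨hq' _ _ n4, hq' _ _ (by simpa using n2), hq' _ _ n6⟩
    · simp only [Finset.mem_insert, Finset.mem_singleton, not_or]
      exact ⟨hq' _ _ (by simpa using n1), hq' _ _ (by simpa using n2), hq' _ _ (by simpa using n3),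
        hq' _ _ (by simpa using n9)⟩
  have h6 := Finset.card_le_univ ({q 1, q ⟨a, aH⟩, q ⟨b, bH⟩, q ⟨a * b, mul_mem aH bH⟩, q ⟨u, uH⟩} : Finset _)
  rw [h5, ← Nat.card_eq_fintype_card] at h6
  change Nat.card (H ⧸ (zpowers (a ^ 2)).subgroupOf H) ≤ _ at h1
  omega

end CL.BC
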