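import Mathlib
import Cfsg.Agent.FUS.BC.Defs

/-!
S5217: the subgroup `K = [V, α]`.
-/

set_option autoImplicit false

namespace CL.BC

open Subgroup Cfsg CL.Fus CL.Bic
open scoped commutatorElement

variable {G : Type*} [Group G] [Finite G]

namespace KAx

/-- index at most two -/
theorem half {L K : Subgroup G} (h : L.relIndex K ≤ 2) {x y : G} (hx : x ∈ K) (hy : y ∈ K) (hx' : x ∉ L)
    (hy' : y ∉ L) : x⁻¹ * y ∈ L := by
  have h0 : (L.subgroupOf K).index ≠ 0 := index_ne_zero_of_finite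
  have h1 : (L.subgroupOf K).index ≠ 1 := fun e => hx' (by
    have : (⟨x, hx⟩ : K) ∈ L.subgroupOf K := (index_eq_one.1 e).symm ▸ mem_top _
    exact this)
  have h2 : (L.subgroupOf K).index = 2 := by
    have : (L.subgroupOf K).index ≤ 2 := h
    omega
  have := (mul_mem_iff_of_index_two h2 (a := (⟨x, hx⟩ : K)⁻¹) (b := ⟨y, hy⟩)).2
    (by rw [inv_mem_iff]; exact iff_of_false hx' hy')
  exact this

variable {f : G →* G}

/-- an invariant coset of an invariant subgroup contains a fixed point -/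
theorem fixc (hG : IsPGroup 2 G) (h3 : ∀ x, f (f (f x)) = x) {L : Subgroup G} (hL : ∀ x ∈ L, f x ∈ L) {v : G}
    (hv : v⁻¹ * f v ∈ L) : ∃ c, f c = c ∧ v⁻¹ * c ∈ L := by
  classical
  let s : L → L := fun l => ⟨v⁻¹ * f (v * l), by
    rw [map_mul, ← mul_assoc]; exact mul_mem hv (hL _ l.2)⟩
  have hs : ∀ l, s (s (s l)) = l := fun l => Subtype.ext (by simp [s, h3])
  let σ : Equiv.Perm L := ⟨s, fun l => s (s l), hs, hs⟩
  have := Fintype.ofFinite L
  have : Fact (Nat.Prime 3) := ⟨Nat.prime_three⟩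
  obtain ⟨n, hn⟩ := IsPGroup.iff_card.1 (hG.to_subgroup L)
  obtain ⟨l, hl⟩ := Equiv.Perm.exists_fixed_point_of_prime (p := 3) (n := 1) (σ := σ) (by
    rw [← Nat.card_eq_fintype_card, hn]
    intro h
    have := Nat.prime_three.dvd_of_dvd_pow h
    omega) (Equiv.ext fun l => hs l)
  have hl' : v⁻¹ * f (v * l) = l := congrArg Subtype.val hl
  exact ⟨v * l, inv_mul_eq_iff_eq_mul.1 hl', by simp⟩

omit [Finite G] in
/-- the norm of an element of `K` lies in `F` -/
theorem norm_mem (h3 : ∀ x, f (f (f x)) = x) {K F : Subgroup G} [F.Normal] (hK : ∀ x ∈ K, f x ∈ K)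
    (min : ∀ L : Subgroup G, (∀ k ∈ K, k⁻¹ * f k ∈ L) → K ≤ L) (sq : ∀ x ∈ K, x * x ∈ F) {k : G} (hk : k ∈ K) :
    k * f k * f (f k) ∈ F := by
  let π := QuotientGroup.mk' F
  have s1 : ∀ x ∈ K, π x * π x = 1 := fun x hx => by
    rw [← map_mul]; exact (QuotientGroup.eq_one_iff _).2 (sq x hx)
  have iv : ∀ x ∈ K, (π x)⁻¹ = π x := fun x hx => inv_eq_of_mul_eq_one_left (s1 x hx)
  have cm : ∀ x ∈ K, ∀ y ∈ K, Commute (π x) (π y) := fun x hx y hy => by
    have := iv _ (mul_mem hx hy)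
    rw [map_mul, mul_inv_rev, iv x hx, iv y hy] at this
    exact this.symm
  have nm : ∀ x ∈ K, ∀ y ∈ K, π (x * y * f (x * y) * f (f (x * y))) =
      π (x * f x * f (f x)) * π (y * f y * f (f y)) := fun x hx y hy => by
    simp only [map_mul]
    rw [(cm y hy _ (hK x hx)).mul_mul_mul_comm,
      ((cm y hy _ (hK _ (hK x hx))).mul_left (cm _ (hK y hy) _ (hK _ (hK x hx)))).mul_mul_mul_comm]
  let L : Subgroup G :=
    { carrier := {x | x ∈ K ∧ π (x * f x * f (f x)) = 1}
      one_mem' := ⟨one_mem _, by simp⟩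
      mul_mem' := fun {x y} hx hy => ⟨mul_mem hx.1 hy.1, by rw [nm x hx.1 y hy.1, hx.2, hy.2, one_mul]⟩
      inv_mem' := fun {x} hx => ⟨inv_mem hx.1, by
        have := nm x hx.1 x⁻¹ (inv_mem hx.1)
        rw [hx.2, one_mul] at this
        rw [← this]; simp⟩ }
  have := min L (fun x hx => ⟨mul_mem (inv_mem hx) (hK x hx), by
    have e := nm x hx (x⁻¹ * f x) (mul_mem (inv_mem hx) (hK x hx))
    rw [mul_inv_cancel_left, h3] at e
    have e2 : π (f x * f (f x) * x) = π (x * f x * f (f x)) := by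
      simp only [map_mul]
      rw [mul_assoc (π x), ((cm x hx _ (hK x hx)).mul_right (cm x hx _ (hK _ (hK x hx)))).eq]
    rw [e2] at e
    exact (left_eq_mul.1 e)⟩) hk
  exact (QuotientGroup.eq_one_iff _).1 this.2

omit [Finite G] in
/-- no non-trivial coset of `F` in `K F` is fixed -/
theorem mem_of_fix (h3 : ∀ x, f (f (f x)) = x) {K F : Subgroup G} [F.Normal] (hK : ∀ x ∈ K, f x ∈ K)
    (min : ∀ L : Subgroup G, (∀ k ∈ K, k⁻¹ * f k ∈ L) → K ≤ L) (sq : ∀ x ∈ K, x * x ∈ F)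
    (hF : ∀ x ∈ F, f x ∈ F) {k : G} (hk : k ∈ K) (h : k⁻¹ * f k ∈ F) : k ∈ F := by
  have h1 := norm_mem h3 hK min sq hk
  have h2 := hF _ h
  rw [map_mul, map_inv] at h2
  rw [← QuotientGroup.eq] at h h2
  have h4 := (QuotientGroup.eq_one_iff _).2 (sq k hk)
  rw [← QuotientGroup.eq_one_iff] at h1 ⊢
  rw [QuotientGroup.mk_mul, QuotientGroup.mk_mul, ← h2, ← h, ← QuotientGroup.mk_mul, h4, one_mul] at h1
  exact h1

/-- an invariant subgroup of index at most two in `K` contains `K` -/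
theorem le_of_half (h3 : ∀ x, f (f (f x)) = x) {K L : Subgroup G} (hK : ∀ x ∈ K, f x ∈ K)
    (min : ∀ L : Subgroup G, (∀ k ∈ K, k⁻¹ * f k ∈ L) → K ≤ L) (hL : ∀ x ∈ L, f x ∈ L)
    (h : L.relIndex K ≤ 2) : K ≤ L := by
  refine min L fun k hk => ?_
  by_cases hk' : k ∈ L
  · exact mul_mem (inv_mem hk') (hL k hk')
  · exact half h hk (hK k hk) hk' fun e => hk' (h3 k ▸ hL _ (hL _ e))

/-- a subgroup over `F` containing `k, f k` has index at most two -/
theorem index_le (h3 : ∀ x, f (f (f x)) = x) {K F L : Subgroup G} [F.Normal] (hK : ∀ x ∈ K, f x ∈ K)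
    (min : ∀ L : Subgroup G, (∀ k ∈ K, k⁻¹ * f k ∈ L) → K ≤ L) (sq : ∀ x ∈ K, x * x ∈ F)
    (hF : ∀ x ∈ F, f x ∈ F) (h8 : F.index ≤ 8) {k : G} (hk : k ∈ K) (hk' : k ∉ F) (FL : F ≤ L) (kL : k ∈ L)
    (fL : f k ∈ L) : L.index ≤ 2 := by
  have h1 : ¬ F.relIndex L ≤ 2 := fun h =>
    hk' (mem_of_fix h3 hK min sq hF hk (half h kL fL hk' fun e => hk' (h3 k ▸ hF _ (hF _ e))))
  have h2 := relIndex_mul_index FL
  nlinarith

theorem frat_inv (hG : IsPGroup 2 G) : ∀ x ∈ frattini G, f x ∈ frattini G := fun x hx =>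
  PG.frattini_map_le (p := 2) hG f ⟨x, hx, rfl⟩

omit [Finite G] in
/-- two subgroups of index two agreeing on the generators -/
theorem eq_of_gen {a b : G} (h : closure ({a, b} : Set G) = ⊤) {M N : Subgroup G} (hM : M.index = 2)
    (hN : N.index = 2) (ha : a ∈ M ↔ a ∈ N) (hb : b ∈ M ↔ b ∈ N) : M = N := by
  ext g
  have hg : g ∈ closure ({a, b} : Set G) := h ▸ mem_top g
  induction hg using closure_induction with
  | mem z hz => rcases hz with rfl | rfl <;> assumption
  | one => simp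
  | mul x y _ _ hx hy =>
    rw [mul_mem_iff_of_index_two hM, mul_mem_iff_of_index_two hN]
    exact iff_congr hx hy
  | inv x _ hx => rw [inv_mem_iff, inv_mem_iff]; exact hx

/-- Blackburn's criterion -/
theorem mc (hG : IsPGroup 2 G) (h3 : ∀ x, f (f (f x)) = x)
    (min : ∀ L : Subgroup G, (∀ k ∈ (⊤ : Subgroup G), k⁻¹ * f k ∈ L) → ⊤ ≤ L) {B : Subgroup G}
    (hB : B.index ≤ 2) (hm : IsMetacyclic B) : IsMetacyclic G := by
  by_cases hT : B = ⊤
  · subst hT
    exact MC.metacyclic_of_injective hm (topEquiv (G := G)).symm.toMonoidHom (topEquiv (G := G)).symm.injective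
  have hB2 : B.index = 2 := by
    have h0 : B.index ≠ 0 := index_ne_zero_of_finite
    have h1 : B.index ≠ 1 := fun e => hT (index_eq_one.1 e)
    omega
  have hK : ∀ x ∈ (⊤ : Subgroup G), f x ∈ (⊤ : Subgroup G) := fun _ _ => mem_top _
  have sq : ∀ x ∈ (⊤ : Subgroup G), x * x ∈ frattini G := fun x _ => by
    rw [← _root_.sq]; exact PG.pow_mem_frattini hG x
  have hF := frat_inv (f := f) hG
  have FB : frattini G ≤ B := frattini_le_coatom (PG.isCoatom_of_index_eq_prime Nat.prime_two hB2)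
  obtain ⟨k, kB, kF⟩ : ∃ k ∈ B, k ∉ frattini G := by
    by_contra hc
    push Not at hc
    have e : frattini G = B := le_antisymm FB hc
    exact hT (top_le_iff.1 (le_of_half h3 hK min (e ▸ hF) (by rw [relIndex_top_right]; exact hB)))
  have hn := norm_mem h3 hK min sq (mem_top k)
  have gen : closure ({k, f k} : Set G) = ⊤ := by
    have kL : k ∈ closure ({k, f k} : Set G) ⊔ frattini G := mem_sup_left (subset_closure (by simp))
    have fL : f k ∈ closure ({k, f k} : Set G) ⊔ frattini G := mem_sup_left (subset_closure (by simp))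
    refine frattini_nongenerating (top_le_iff.1 (le_of_half h3 hK min ?_ ?_))
    · have : closure ({k, f k} : Set G) ⊔ frattini G ≤ (closure ({k, f k} : Set G) ⊔ frattini G).comap f := by
        refine sup_le ((closure_le _).2 ?_) fun x hx => mem_sup_right (hF x hx)
        rintro z (rfl | rfl)
        · exact fL
        · exact (mul_mem_cancel_left (mul_mem kL fL)).1 (mem_sup_right hn)
      exact fun x hx => this hx
    · rw [relIndex_top_right]
      exact index_le h3 hK min sq hF (index_frattini_le_eight hG hB hm) (mem_top k) kF le_sup_right kL fL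
  have top : ∀ M : Subgroup G, k ∈ M → f k ∈ M → M = ⊤ := fun M h1 h2 => by
    rw [eq_top_iff, ← gen, closure_le]
    rintro z (rfl | rfl) <;> assumption
  have k1 : f k ∉ B := fun e => hT (top B kB e)
  have k2 : f (f k) ∉ B := fun e => k1 ((mul_mem_cancel_left kB).1 ((mul_mem_cancel_right e).1 (FB hn)))
  have sj : Function.Surjective f := fun x => ⟨_, h3 x⟩
  have ij : Function.Injective f := Finite.injective_iff_surjective.2 sj
  have cg : ∀ N : Subgroup G, Gen2 N → Gen2 (N.comap f) := fun N hN =>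
    Gen2.of_map ij (by rwa [map_comap_eq_self_of_surjective sj])
  have ci : ∀ N : Subgroup G, N.index = 2 → (N.comap f).index = 2 := fun N hN => by
    rw [index_comap_of_surjective _ sj, hN]
  have g0 := gen2_of_metacyclic hm
  refine metacyclic_of_gen2 hG ⟨k, f k, gen⟩ fun M hM => ?_
  by_cases m1 : k ∈ M <;> by_cases m2 : f k ∈ M
  · rw [top M m1 m2, index_top] at hM
    omega
  · rw [eq_of_gen gen hM hB2 (iff_of_true m1 kB) (iff_of_false m2 k1)]
    exact g0
  · rw [eq_of_gen gen hM (ci _ (ci _ hB2)) (iff_of_false m1 k2)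
      (iff_of_true m2 (show f (f (f k)) ∈ B by rw [h3]; exact kB))]
    exact cg _ (cg _ g0)
  · rw [eq_of_gen gen hM (ci _ hB2) (iff_of_false m1 k1) (iff_of_false m2 k2)]
    exact cg _ g0

end KAx

/-- `K = closure {v⁻¹ α v}`. Normal: `r⁻¹ (q⁻¹ α q) r = (q r)⁻¹ α (q r) * (r⁻¹ α r)⁻¹`. (1) every coset of an
`α`-invariant `L` that is mapped into itself by `α` contains a fixed point (`⟨α⟩` has order 3, the coset has `2 ^ k`
elements; `IsPGroup.nonempty_fixed_point_of_prime_not_dvd_card`), so `G = C K`, `C = C(α)`. `min`: `K' = closure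
{k⁻¹ α k}`, `K = C_K K'`, `v = c c' k'`, `v⁻¹ α v = k'⁻¹ α k'`. (2) if `L ≤ K` is `α`-invariant with `relIndex ≤ 2`
then `L = K` (`min`). (3) for `Φ ∈ {Φ(G), Φ(K)}` and `k ∈ K`: `N k = k * α k * α² k ∈ Φ` (`N` is multiplicative modulo
`Φ` and kills `k⁻¹ α k`; use `min`), so `k⁻¹ α k ∈ Φ → k ∈ Φ` (`N k ≡ k ^ 3 ≡ k`). (4) `K ≰ Φ(G)`
(`MC.eq_one_of_frattini`), so `1, k, α k, α² k` are distinct modulo `Φ(G)`, `|G : Φ(G)| ≤ 8`
(`index_frattini_le_eight`), `K ⊔ Φ(G)` has index `≤ 2`; take `c ∈ C` outside it (or `c = 1`): `K ⊔ zpowers c = ⊤`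
by the Frattini argument. (5) `mc`: `B ⊓ K` is metacyclic of index `≤ 2` in `K`; if proper: `|K : Φ(K)| ≤ 8`, for
`k ∈ K ∖ Φ(K)` the invariant subgroup `⟨k, α k⟩ Φ(K)` has index `≤ 2`, so is `K` by (2): `K = ⟨k, α k⟩`, and a
subgroup of index 2 in `K` contains `Φ(K)` and exactly one of `k, α k, α² k`; choosing `k ∈ B`, these subgroups are
`α ^ i (B ⊓ K)`, all `Gen2` (`gen2_of_metacyclic`, `Gen2.map`); `metacyclic_of_gen2` in the group `K`. -/
theorem exists_KA (hG : IsPGroup 2 G) {α : MulAut G} (h3 : α ^ 3 = 1) (h1 : α ≠ 1) {B : Subgroup G}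
    (hB : B.index ≤ 2) (hm : IsMetacyclic B) : ∃ (K : Subgroup G) (c : G), KA α K c := by
  let f : G →* G := α.toMonoidHom
  have f3 : ∀ x, f (f (f x)) = x := fun x => congrArg (fun β : MulAut G => β x) h3
  set K : Subgroup G := closure (Set.range fun v => v⁻¹ * f v) with hKdef
  have mem : ∀ v, v⁻¹ * f v ∈ K := fun v => subset_closure ⟨v, rfl⟩
  have hK : ∀ x ∈ K, f x ∈ K := by
    have : K ≤ K.comap f := (closure_le _).2 (by
      rintro _ ⟨v, rfl⟩
      have := mem (f v)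
      rwa [← map_inv, ← map_mul] at this)
    exact fun x hx => this hx
  have hN : K.Normal := ⟨fun x hx r => by
    have : K ≤ K.comap (MulAut.conj r).toMonoidHom := (closure_le _).2 (by
      rintro _ ⟨v, rfl⟩
      have e : r * (v⁻¹ * f v) * r⁻¹ = (v * r⁻¹)⁻¹ * f (v * r⁻¹) * (r⁻¹⁻¹ * f r⁻¹)⁻¹ := by
        simp only [map_mul, map_inv]; group
      show r * (v⁻¹ * f v) * r⁻¹ ∈ K
      rw [e]
      exact mul_mem (mem _) (inv_mem (mem _)))
    exact this hx⟩
  have min : ∀ L : Subgroup G, (∀ k ∈ K, k⁻¹ * f k ∈ L) → K ≤ L := fun L hL => (closure_le _).2 (by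
    rintro _ ⟨v, rfl⟩
    obtain ⟨c, hc, hv⟩ := KAx.fixc hG f3 hK (mem v)
    have := hL _ (inv_mem hv)
    rw [map_inv, map_mul, map_inv, hc] at this
    have e : v⁻¹ * f v = (v⁻¹ * c)⁻¹⁻¹ * ((f v)⁻¹ * c)⁻¹ := by group
    show v⁻¹ * f v ∈ L
    rw [e]; exact this)
  have sq : ∀ x ∈ K, x * x ∈ frattini G := fun x _ => by
    rw [← _root_.sq]; exact PG.pow_mem_frattini hG x
  have hF := KAx.frat_inv (f := f) hG
  obtain ⟨k, kK, kF⟩ : ∃ k ∈ K, k ∉ frattini G := by
    by_contra hc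
    push Not at hc
    refine h1 (MC.eq_one_of_frattini hG ?_ fun x => hc _ (mem x))
    exact Nat.Coprime.coprime_dvd_left (orderOf_dvd_of_pow_eq_one h3) (by norm_num)
  have hi : (K ⊔ frattini G).index ≤ 2 := KAx.index_le f3 hK min sq hF (index_frattini_le_eight hG hB hm) kK kF
    le_sup_right (mem_sup_left kK) (mem_sup_left (hK k kK))
  obtain ⟨c, hc, hg⟩ : ∃ c, f c = c ∧ ∀ g, g ∈ K ⊔ frattini G ∨ c⁻¹ * g ∈ K ⊔ frattini G := by
    by_cases hT : ∀ g, g ∈ K ⊔ frattini G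
    · exact ⟨1, map_one f, fun g => Or.inl (hT g)⟩
    · push Not at hT
      obtain ⟨v, hv⟩ := hT
      obtain ⟨c, hc, hvc⟩ := KAx.fixc hG f3 hK (mem v)
      refine ⟨c, hc, fun g => or_iff_not_imp_left.2 fun hg => ?_⟩
      refine KAx.half (K := ⊤) (by rwa [relIndex_top_right]) (mem_top _) (mem_top _) (fun e => hv ?_) hg
      exact inv_mem_iff.1 ((mul_mem_cancel_right e).1 (mem_sup_left hvc))
  have top : K ⊔ zpowers c = ⊤ := by
    refine frattini_nongenerating (eq_top_iff.2 fun g _ => ?_)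
    have le : K ⊔ frattini G ≤ K ⊔ zpowers c ⊔ frattini G := sup_le_sup_right le_sup_left _
    rcases hg g with h | h
    · exact le h
    · exact (mul_mem_cancel_left (inv_mem (mem_sup_left (mem_sup_right (mem_zpowers c))))).1 (le h)
  refine ⟨K, c, hN, mem, min, hc, fun v => ?_, ?_⟩
  · have hv : v ∈ ((K ⊔ zpowers c : Subgroup G) : Set G) := by rw [top]; trivial
    rw [normal_mul] at hv
    obtain ⟨k, hk, _, ⟨i, rfl⟩, rfl⟩ := hv
    exact ⟨k, hk, i, rfl⟩
  · let g : K →* K := (f.comp K.subtype).codRestrict K fun x => hK x x.2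
    refine KAx.mc (f := g) (hG.to_subgroup K) (fun x => Subtype.ext (f3 x)) (fun L hL x _ => ?_)
      (B := B.subgroupOf K) ?_ (sub_metacyclic hm)
    · obtain ⟨y, hy, e⟩ := min (L.map K.subtype) (fun k hk => ⟨_, hL ⟨k, hk⟩ (mem_top _), rfl⟩) x.2
      rwa [← Subtype.ext e]
    · by_cases hB2 : B.index = 2
      · exact sub_index_le hB2
      · have h0 : B.index ≠ 0 := index_ne_zero_of_finite
        rw [index_eq_one.1 (by omega : B.index = 1), top_subgroupOf, index_top]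
        omega

end CL.BC
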