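import Mathlib
import Cfsg.Agent.FUS.BC.Defs
import Cfsg.Agent.FUS.BC.KA
import Cfsg.Agent.S1896

/-!
S5217: the two shapes of the essential subgroup.
-/

set_option autoImplicit false

namespace CL.BC

open Subgroup Cfsg CL.Fus CL.Bic
open scoped commutatorElement

variable {G : Type*} [Group G] [Finite G]

namespace KB

variable {H : Type*} [Group H] {α β γ σ τ : MulAut H} {x y k : H}

/-- the automorphisms fixing every coset of `N` -/
def Tv (N : Subgroup H) : Subgroup (MulAut H) where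
  carrier := {σ | ∀ v, v⁻¹ * σ v ∈ N}
  one_mem' := fun v => by simp
  mul_mem' := fun {σ ρ} a b v => by simpa [mul_assoc] using mul_mem (b v) (a (ρ v))
  inv_mem' := fun {σ} a v => by simpa using inv_mem (a (σ⁻¹ v))

theorem Tv.cj {N : Subgroup H} (h : σ ∈ Tv N) (hβ : ∀ n ∈ N, β n ∈ N) : β * σ * β⁻¹ ∈ Tv N := fun v => by
  simpa using hβ _ (h (β⁻¹ v))

theorem cop {Z : Type*} [Group Z] {C : Subgroup Z} {y : Z} {m : ℕ} (h1 : y ^ 3 ∈ C) (h2 : y ^ 2 ^ m = 1) : y ∈ C :=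
  (exists_pow_eq_self_of_coprime ((Nat.Coprime.pow_left m (by norm_num : Nat.Coprime 2 3)).coprime_dvd_left
    (orderOf_dvd_of_pow_eq_one h2)).symm).elim fun a e => e ▸ pow_mem h1 a

local notation "π" x:max => (QuotientGroup.mk x : _ ⧸ frattini _)

theorem fr (σ : MulAut H) : ∀ n ∈ frattini H, σ n ∈ frattini H := fun _ hn =>
  characteristic_iff_le_comap.1 inferInstance σ hn

theorem cg (σ : MulAut H) : π (σ x) = π (σ y) ↔ π x = π y := by
  rw [QuotientGroup.eq, QuotientGroup.eq, ← map_inv, ← map_mul]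
  exact ⟨fun h => by simpa using fr σ⁻¹ _ h, fr σ _⟩

theorem cg1 (σ : MulAut H) : π (σ x) = 1 ↔ π x = 1 := by simpa using cg σ (x := x) (y := 1)

theorem tv (h : σ ∈ Tv (frattini H)) (v : H) : π (σ v) = π v := (QuotientGroup.eq.2 (h v)).symm

theorem a3 (h3 : α ^ 3 = 1) (k : H) : α (α (α k)) = k := by
  simpa [pow_succ] using DFunLike.congr_fun h3 k

theorem cube {W : Type*} [Group W] (f : H →* W) (cm : ∀ x y : W, x * y = y * x) (h3 : α ^ 3 = 1)
    (mn : ∀ L : Subgroup H, (∀ k, k⁻¹ * α k ∈ L) → L = ⊤) (k : H) : f k * f (α k) * f (α (α k)) = 1 := by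
  letI : CommGroup W := { ‹Group W› with mul_comm := cm }
  exact (mn (f * f.comp α * f.comp ((α : H →* H).comp α)).ker fun k => by
    simp [MonoidHom.mem_ker, a3 h3, mul_comm, mul_left_comm]).ge (mem_top k)

theorem zp {W : Type*} [Group W] {w : W} (h : w * w = 1) (i : ℤ) : (Even i ∧ w ^ i = 1) ∨ w ^ i = w := by
  have e : ∀ j : ℤ, w ^ (2 * j) = 1 := fun j => by rw [zpow_mul, zpow_two, h, one_zpow]
  rcases i.even_or_odd' with ⟨j, rfl | rfl⟩
  · exact .inl ⟨even_two_mul j, e j⟩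
  · exact .inr (by rw [zpow_add_one, e, one_mul])

variable [Finite H]

theorem wc (pg : IsPGroup 2 H) (x y : H ⧸ frattini H) : x * y = y * x := by
  obtain ⟨x, rfl⟩ := QuotientGroup.mk_surjective x
  obtain ⟨y, rfl⟩ := QuotientGroup.mk_surjective y
  exact commutatorElement_eq_one_iff_mul_comm.1 ((map_commutatorElement (QuotientGroup.mk' _) x y).symm.trans
    ((QuotientGroup.eq_one_iff _).2 (PG.commutatorElement_mem_frattini pg x y)))

theorem ws (pg : IsPGroup 2 H) (x : H ⧸ frattini H) : x * x = 1 := by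
  obtain ⟨x, rfl⟩ := QuotientGroup.mk_surjective x
  exact (QuotientGroup.eq_one_iff (x * x)).2 (pow_two x ▸ PG.pow_mem_frattini pg x)

theorem inner (pg : IsPGroup 2 H) (k : H) : MulAut.conj k ∈ Tv (frattini H) := fun v => by
  simpa [commutatorElement_def, mul_assoc] using PG.commutatorElement_mem_frattini pg v⁻¹ k

theorem moved (pg : IsPGroup 2 H) (h3 : α ^ 3 = 1) (h1 : α ≠ 1) (e : τ * α * τ⁻¹ * α ∈ Tv (frattini H)) :
    τ ∉ Tv (frattini H) := fun a => by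
  have := pow_mem (mul_mem (inv_mem (mul_mem a (Tv.cj (inv_mem a) (fr α)))) e) 2
  rw [show ((τ * (α * τ⁻¹ * α⁻¹))⁻¹ * (τ * α * τ⁻¹ * α)) ^ 2 = α ^ 3 * α by simp [pow_succ, mul_assoc], h3,
    one_mul] at this
  exact h1 (MC.eq_one_of_frattini pg ((by norm_num : Nat.Coprime 3 2).coprime_dvd_left
    (orderOf_dvd_of_pow_eq_one h3)) this)

/-- restriction of an automorphism to an invariant subgroup -/
noncomputable def res (K : Subgroup H) (σ : MulAut H) (h : ∀ k ∈ K, σ k ∈ K) : MulAut K :=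
  .ofBijective (((σ : H →* H).comp K.subtype).codRestrict K fun k => h k k.2) (Finite.injective_iff_bijective.1
    fun _ _ e => Subtype.ext (σ.injective (congrArg Subtype.val e :)))

theorem res_val {K : Subgroup H} {h : ∀ k ∈ K, σ k ∈ K} (k : K) : (res K σ h k).1 = σ k := rfl

/-- the situation in `K` -/
structure Kd (α : MulAut H) : Prop where
  pg : IsPGroup 2 H
  mc : IsMetacyclic H
  h3 : α ^ 3 = 1
  h1 : α ≠ 1
  mn : ∀ L : Subgroup H, (∀ k, k⁻¹ * α k ∈ L) → L = ⊤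

/-- the two shapes of `K` -/
def Sh (α γ τ : MulAut H) : Prop :=
  (∃ a b : H, closure {a, b} = ⊤ ∧ a ^ 4 = 1 ∧ b ^ 2 = a ^ 2 ∧ b * a * b⁻¹ = a⁻¹ ∧ (∀ k, γ k = k) ∧ τ a = a * b ∧
    (τ b = b ∨ τ b = b⁻¹) ∧ ∀ i j : ℤ, α (a ^ i * b ^ j) = a ^ i * b ^ j → Even i ∧ Even j) ∨
  ((∀ x y : H, x * y = y * x) ∧ (∀ x, α x = x → x = 1) ∧ ∃ k : H, k ^ 2 ≠ 1 ∧ (k ^ 2) ^ 2 = 1 ∧ τ (k ^ 2) ≠ k ^ 2 ∧
    ∀ σ ∈ Tv (frattini H), σ (k ^ 2) = k ^ 2 ∧ σ (τ (k ^ 2)) = τ (k ^ 2))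

namespace Kd

variable (d : Kd α)
include d

theorem fpf (e : π (α k) = π k) : π k = 1 := by
  have := cube (QuotientGroup.mk' _) (wc d.pg) d.h3 d.mn k
  simp only [QuotientGroup.mk'_apply] at this
  rwa [(cg α).2 e, e, ws d.pg, one_mul] at this

theorem four {a b c : H ⧸ frattini H} (h1 : a ≠ 1) (h2 : b ≠ 1) (h3 : c ≠ 1) (h4 : a ≠ b) (h5 : a ≠ c) (h6 : b ≠ c)
    (w : H ⧸ frattini H) : w = 1 ∨ w = a ∨ w = b ∨ w = c := by
  classical
  have := Fintype.ofFinite (H ⧸ frattini H)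
  have h := (gen2_top_of_metacyclic d.mc).relIndex_le (B := frattini H) le_top fun m _ =>
    pow_two m ▸ PG.pow_mem_frattini d.pg m
  rw [relIndex_top_right, index, Nat.card_eq_fintype_card] at h
  have := Finset.eq_univ_of_card ({1, a, b, c} : Finset (H ⧸ frattini H)) (le_antisymm (Finset.card_le_univ _)
    (h.trans_eq (Finset.card_eq_four.2 ⟨_, _, _, _, h1.symm, h2.symm, h3.symm, h4, h5, h6, rfl⟩).symm))
  simpa using this.ge (Finset.mem_univ w)

theorem tri (n : π k ≠ 1) (w : H ⧸ frattini H) : w = 1 ∨ w = π k ∨ w = π (α k) ∨ w = π (α (α k)) :=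
  have e : π k ≠ π (α k) := fun e => n (d.fpf e.symm)
  d.four n (mt (cg1 α).1 n) (mt (cg1 α).1 (mt (cg1 α).1 n)) e
    (fun q => e ((cg α).1 ((cg α).1 (by rw [a3 d.h3, ← q]))).symm) (mt (cg α).1 e) w

theorem gam (c : Commute γ α) {m : ℕ} (e : γ ^ 2 ^ m = 1) : γ ∈ Tv (frattini H) := cop (fun k => by
  have q : ∀ β : MulAut H, Commute γ β → β ^ 3 = 1 → π (γ k) = π (β k) → k⁻¹ * (γ ^ 3) k ∈ frattini H :=
    fun β c h3 e => QuotientGroup.eq.1 (by
      have c' : ∀ x, γ (β x) = β (γ x) := DFunLike.congr_fun c.eq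
      conv_lhs => rw [← a3 h3 k]
      rw [← (cg β).2 ((cg β).2 e), ← c', ← c', ← (cg γ).2 ((cg β).2 e), ← c', ← (cg γ).2 ((cg γ).2 e)]
      simp [pow_succ])
  by_cases n : π k = 1
  · exact QuotientGroup.eq.1 (n.trans ((cg1 _).2 n).symm)
  rcases d.tri n (π (γ k)) with a | a | a | a
  · exact absurd ((cg1 γ).1 a) n
  · exact q 1 (Commute.one_right _) (one_pow _) a
  · exact q α c d.h3 a
  · exact q (α * α) (c.mul_right c) (by rw [(Commute.refl α).mul_pow, d.h3, one_mul]) a) e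

theorem shape (c : Commute γ α) (g : γ ∈ Tv (frattini H)) (t2 : τ * τ ∈ Tv (frattini H))
    (e : τ * α * τ⁻¹ * α ∈ Tv (frattini H)) : Sh α γ τ := by
  have pg := d.pg
  obtain ⟨a, ha⟩ : ∃ a, π (τ a) ≠ π a := by
    by_contra! q
    exact moved pg d.h3 d.h1 e fun v => QuotientGroup.eq.1 (q v).symm
  have a1 : π a ≠ 1 := fun q => ha (((cg1 τ).2 q).trans q.symm)
  have cZ : ∀ z : H, z * z = 1 → (∃ w, w * w = z) → (∀ x, x ≠ 1 → x ≠ z → x * x = z) →
      (∀ x y : H, ⁅x, y⁆ = 1 ∨ ⁅x, y⁆ = z) → Sh α γ τ := fun z z2 ⟨w, hw⟩ z3 z4 => Or.inl (by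
    have zF : z ∈ frattini H := hw ▸ pow_two w ▸ PG.pow_mem_frattini pg w
    have mz : ∀ x ∈ zpowers z, x = 1 ∨ x = z := by
      rintro _ ⟨i, rfl⟩
      exact (zp z2 i).imp_left And.right
    have F : ∀ x ∈ frattini H, x = 1 ∨ x = z := fun x hx => mz x (PG.frattini_le_of_commutator_le_of_pow_mem (p := 2)
      (commutator_le.2 fun x _ y _ => (z4 x y).elim (fun q => q ▸ one_mem _) fun q => q ▸ mem_zpowers z) (fun x => by
        rw [pow_two]
        by_cases q : x = 1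
        · simp [q]
        by_cases q' : x = z
        · rw [q', z2]; exact one_mem _
        · exact z3 x q q' ▸ mem_zpowers z) hx)
    have sq : ∀ x, π x ≠ 1 → x * x = z := fun x n => z3 x (fun q => n (q ▸ rfl)) fun q =>
      n ((QuotientGroup.eq_one_iff x).2 (q ▸ zF))
    have fz : ∀ σ : MulAut H, ∀ x ∈ frattini H, σ x = x := fun σ x hx => by
      rcases F x hx with rfl | rfl
      · exact map_one σ
      · exact (F _ (fr σ _ hx)).elim (fun q => by rw [q, (map_eq_one_iff σ σ.injective).1 q]) id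
    obtain ⟨b, hb⟩ : ∃ b, τ a = a * b := ⟨a⁻¹ * τ a, by group⟩
    have b1 : π b ≠ 1 := fun q => ha (by rw [hb, QuotientGroup.mk_mul, q, mul_one])
    have ab1 : π (a * b) ≠ 1 := hb ▸ mt (cg1 τ).1 a1
    have ab : π a ≠ π b := fun q => ab1 (by rw [QuotientGroup.mk_mul, q, ws pg])
    have h4 : ∀ x, π x ≠ 1 → x * z = x⁻¹ := fun x n =>
      eq_inv_of_mul_eq_one_right (by rw [← mul_assoc, sq x n, z2])
    refine ⟨a, b, frattini_nongenerating (eq_top_iff.2 fun x _ => ?_), by rw [show 4 = 2 * 2 from rfl, pow_mul,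
      pow_two, pow_two, sq a a1, z2], by rw [pow_two, pow_two, sq a a1, sq b b1], ?_, fun k => ?_, hb, ?_,
      fun i j q => ?_⟩
    · have ma : a ∈ closure {a, b} := subset_closure (.inl rfl)
      have mb : b ∈ closure {a, b} := subset_closure (.inr rfl)
      have q : ∀ y ∈ closure {a, b}, π x = π y → x ∈ closure {a, b} ⊔ frattini H := fun y hy q =>
        mul_inv_cancel_left y x ▸ mul_mem_sup hy (QuotientGroup.eq.1 q.symm)
      rcases d.four a1 b1 ab1 ab (fun q => b1 (by simpa using q)) (fun q => a1 (by simpa using q)) (π x) with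
        p | p | p | p
      exacts [q 1 (one_mem _) p, q a ma p, q b mb p, q _ (mul_mem ma mb) p]
    · rw [← h4 b b1, ← mul_assoc, eq_inv_iff_mul_eq_one, mul_assoc _ z, ← mul_inv_eq_iff_eq_mul.1
        (fz (MulAut.conj a) z zF), ← mul_assoc, show b * a * b * a = a⁻¹ * (a * b * (a * b)) * a by group, sq _ ab1,
        show a⁻¹ * z * a = z by simpa using fz (MulAut.conj a⁻¹) z zF, z2]
    · rcases F _ (g k) with p | p
      · exact (inv_mul_eq_one.1 p).symm
      rw [inv_mul_eq_iff_eq_mul] at p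
      have c' : ∀ x, γ (α x) = α (γ x) := DFunLike.congr_fun c.eq
      have zc : ∀ x, z * x = x * z := fun x => (mul_inv_eq_iff_eq_mul.1 (fz (MulAut.conj x) z zF)).symm
      have := fz γ _ ((QuotientGroup.eq_one_iff (k * α k * α (α k))).1 (cube (QuotientGroup.mk' _) (wc pg) d.h3 d.mn k))
      rw [map_mul, map_mul, c', c', c', p, map_mul, map_mul, fz α z zF, fz α z zF] at this
      simp only [mul_assoc, zc, z2, mul_one, mul_right_inj, mul_eq_left] at this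
      rw [p, this, mul_one]
    · have : π (τ b) = π b := by
        have := tv t2 a
        rw [MulAut.mul_apply, hb, map_mul, hb, mul_assoc, QuotientGroup.mk_mul, mul_eq_left, QuotientGroup.mk_mul] at this
        rw [eq_inv_of_mul_eq_one_right this, inv_eq_of_mul_eq_one_left (ws pg _)]
      exact (F _ (QuotientGroup.eq.1 this.symm)).imp (fun p => (inv_mul_eq_one.1 p).symm)
        fun p => (inv_mul_eq_iff_eq_mul.1 p).trans (h4 b b1)
    · have := d.fpf (congrArg QuotientGroup.mk q)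
      rw [QuotientGroup.mk_mul, QuotientGroup.mk_zpow, QuotientGroup.mk_zpow] at this
      rcases zp (ws pg (π a)) i with ⟨p, p'⟩ | p' <;> rcases zp (ws pg (π b)) j with ⟨r, r'⟩ | r' <;> rw [p', r'] at this
      exacts [⟨p, r⟩, absurd (by simpa using this) b1, absurd (by simpa using this) a1, absurd this ab1])
  have cm : (∀ x y : H, x * y = y * x) → Sh α γ τ := fun cm => by
    classical
    have ex : ∃ n, ∀ x : H, x ^ 2 ^ n = 1 := (IsPGroup.iff_card.1 pg).imp fun n e x => by rw [← e, pow_card_eq_one']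
    have h1 := Nat.find_spec ex
    have h2 := @Nat.find_min _ _ ex
    generalize Nat.find ex = n at h1 h2
    rcases n with _ | _ | n
    · exact absurd (congrArg QuotientGroup.mk ((pow_one a).symm.trans (h1 a))) a1
    · exact cZ 1 (one_mul 1) ⟨1, one_mul 1⟩ (fun x _ _ => by simpa [pow_two] using h1 x)
        fun x y => .inl (commutatorElement_eq_one_iff_mul_comm.2 (cm x y))
    letI : CommGroup H := { ‹Group H› with mul_comm := cm }
    have F : frattini H ≤ (powMonoidHom (2 ^ (n + 1))).ker := PG.frattini_le_of_commutator_le_of_pow_mem (p := 2)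
      (commutator_le.2 fun x _ y _ => commutatorElement_eq_one_iff_mul_comm.2 (cm x y) ▸ one_mem _) fun x => by
        rw [MonoidHom.mem_ker, powMonoidHom_apply, ← pow_mul, ← pow_succ', h1]
    have s1 : ∀ {x y : H}, π x = π y → x ^ 2 ^ (n + 1) = y ^ 2 ^ (n + 1) := fun q => by
      simpa [inv_mul_eq_one, mul_pow] using F (QuotientGroup.eq.1 q)
    have s2 : ∀ {x : H}, x ^ 2 ^ (n + 1) = 1 → π x = 1 := fun {x} q => by_contra fun m => h2 (Nat.lt_succ_self _) fun y => by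
      rcases d.tri m (π y) with p | p | p | p
      · exact (s1 (y := 1) p).trans (one_pow _)
      all_goals simp only [s1 p, ← map_pow, q, map_one]
    refine .inr ⟨cm, fun x q => ?_, a ^ 2 ^ n, ?_⟩
    · have := cube (MonoidHom.id H) cm d.h3 d.mn x
      simp only [MonoidHom.id_apply, q] at this
      exact mem_bot.1 (cop (by rw [pow_three', this]; exact one_mem _) (h1 x))
    rw [← pow_mul, ← pow_succ, ← pow_mul, ← pow_succ, map_pow]
    exact ⟨mt s2 a1, h1 a, fun q => ha (QuotientGroup.eq.2 ((QuotientGroup.eq_one_iff _).1 (s2 (by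
      rw [mul_pow, inv_pow, q, inv_mul_cancel])))), fun σ hσ =>
      ⟨by rw [map_pow, s1 (tv hσ a)], by rw [map_pow, s1 (tv hσ _)]⟩⟩
  rcases Cfsg.Agent.S1896.result pg d.mc (fun h => d.h1 (by
    obtain ⟨m, hm⟩ := h α
    exact mem_bot.1 (cop (d.h3 ▸ one_mem _) hm))) with ⟨⟨φ⟩⟩ | ⟨n, ⟨φ⟩⟩
  · refine cZ (φ.symm (.a 2)) ?_ ⟨φ.symm (.a 1), ?_⟩ (fun x => ?_) fun x y => ?_
    · rw [← map_mul, ← map_one φ.symm]; rfl
    · rw [← map_mul]; rfl
    · obtain ⟨x, rfl⟩ := φ.symm.surjective x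
      rw [← map_mul, ← map_one φ.symm]
      simp only [ne_eq, EmbeddingLike.apply_eq_iff_eq]
      revert x; decide
    · obtain ⟨x, rfl⟩ := φ.symm.surjective x
      obtain ⟨y, rfl⟩ := φ.symm.surjective y
      rw [← map_commutatorElement, ← map_one φ.symm]
      simp only [EmbeddingLike.apply_eq_iff_eq]
      revert x y; decide
  · exact cm fun x y => φ.injective (by rw [map_mul, map_mul, mul_comm])

end Kd

end KB

open KB

/-- `exists_KA` in the group `Q` with `B = M.subgroupOf Q` (`sub_index_le`, `sub_metacyclic`); `τ = cjAut Q t`,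
`τ ^ 2 ∈ Inn Q` (`t ^ 2 ∈ Q` by `nq`), `R = (frattini Q).map Q.subtype`. (a) `α' = τ α τ⁻¹ = i α⁻¹`, `i` inner, acts on
`Q / K` as `i`; its order divides 3 and a power of 2, so `v⁻¹ α' v ∈ K`; hence `τ K ≤ K` (`min` with
`L = K.comap τ`). (b) `tq`: otherwise `α ^ 2`, so `α`, is trivial on `Q / Φ(Q)` (`MC.eq_one_of_frattini`). (c) `tc`:
`N v = v α v α² v` is multiplicative modulo `Φ(Q)` and kills `K`, so `k⁻¹ α k ∈ Φ, k ∈ K ⇒ k ∈ Φ`; `τ c` is fixed by
`α'`, so by `α` modulo `Φ`; `τ c = k c ^ i`, `k ∈ Φ`; `c ∈ Φ ↔ τ c ∈ Φ`. (d) `Q` acts trivially on `K / Φ(K)`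
(`⁅K, Q⁆ Φ(K) < K` is `α`-invariant, `|K : Φ(K)| ∣ 4`, index 2 is excluded by `min`), `τ` does not (as in (b), in
`K`; `α|K ≠ 1` else `K = ⊥` by `min`, `α = 1`), `α` fixes no non-trivial coset of `Φ(K)`. (e) `S1896` for `K`:
`Q₈` or `C_{2^n} × C_{2^n}` (`n ≥ 1`). `n ≥ 2`: `HM` with `u, v` two involutions (`2 ^ (n - 1)`-th powers, so centralised
by `Q`, not both by `t`; `disj`: a non-trivial fixed point of `α` in `K` gives a fixed involution `k ^ 2 ^ (n-1)`,
so `k⁻¹ α k ∈ Φ(K)`). `Q₈` or `n = 1`: `Z = Φ(K)`, `a ∈ K` with `τ a ∉ a Z`, `b = a⁻¹ τ a ∉ Z ∪ a Z`, `τ b ∈ b Z =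
{b, b⁻¹}`; `c` centralises `K`: `k ↦ ⁅c, k⁆ ∈ Z` is an `α`-invariant homomorphism, kernel of index `≤ 2`; `free`:
`a ^ i b ^ j = c ^ k` is fixed by `α`, so lies in `Z`. -/
theorem exists_K (hG : IsPGroup 2 G) {Q M : Subgroup G} {t : G} {α : MulAut Q} (h : S3 Q t α)
    (hM : M.index = 2) (hm : IsMetacyclic M) :
    ∃ (c : G) (R : Subgroup G), RD Q t c R ∧ ((∃ a b, Q8 Q t a b c) ∨
      ∃ K u v, HM Q t c K u v ∧ (∃ k : G, u = k ^ 2) ∧ ∃ k : G, v = k ^ 2) := by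
  have pQ := hG.to_subgroup Q
  obtain ⟨K, c, k⟩ := exists_KA pQ h.a3 h.a1 (sub_index_le hM) (sub_metacyclic hm)
  have := k.normal
  obtain ⟨τ, hτ, i, hi⟩ : ∃ τ : MulAut Q, (∀ x, (τ x).1 = t * x * t⁻¹) ∧ ∃ i, MulAut.conj i = τ * α * τ⁻¹ * α :=
    ⟨_, fun _ => rfl, h.inv⟩
  have tt : t * t ∈ Q := (h.n.nq _ (mul_mem h.n.tn h.n.tn)).resolve_right (by simpa using h.n.tq)
  have t2 : MulAut.conj ⟨_, tt⟩ = τ * τ := MulEquiv.ext fun x => Subtype.ext (by simp [hτ, mul_assoc])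
  have aK : ∀ σ ∈ Tv K, ∀ x ∈ K, σ x ∈ K := fun σ hσ x hx => by simpa using mul_mem hx (hσ x)
  have αT : α ∈ Tv K := k.mem
  obtain ⟨m, hm'⟩ := pQ i
  have h1 : τ * α * τ⁻¹ ∈ Tv K := by
    have e : τ * α * τ⁻¹ = MulAut.conj i * α⁻¹ := by rw [hi, mul_inv_cancel_right]
    have n : ∀ x ∈ K, (τ * α * τ⁻¹) x ∈ K := fun x hx => e ▸ this.conj_mem _ (aK _ (inv_mem αT) x hx) i
    have h3 : (τ * α * τ⁻¹) ^ 3 = 1 := by rw [conj_pow, h.a3, mul_one, mul_inv_cancel]
    refine e ▸ mul_mem (cop (m := m) ?_ (by rw [← map_pow, hm', map_one])) (inv_mem αT)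
    rw [hi]
    generalize τ * α * τ⁻¹ = β at n h3
    have := mul_mem (Tv.cj (mul_mem αT (Tv.cj αT n)) n) αT
    rwa [show β * (α * (β * α * β⁻¹)) * β⁻¹ * α = β * α * (β * α) * ((β ^ 3)⁻¹ * β * α) by
      simp only [pow_succ]; group, h3, inv_one, one_mul, ← pow_three'] at this
  have τK : ∀ x ∈ K, τ x ∈ K := fun x hx => k.min (K.comap (τ : Q →* Q)) (fun x _ => by simpa using h1 (τ x)) hx
  have d : Kd (res K α (aK α αT)) := ⟨pQ.to_subgroup K, k.mc, MulEquiv.ext fun x => Subtype.ext (by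
      simpa [pow_succ, res_val] using a3 h.a3 x.1), fun e => h.a1 (MulEquiv.ext fun v => (inv_mul_eq_one.1 (mem_bot.1
      (k.min ⊥ (fun x hx => mem_bot.2 (inv_mul_eq_one.2 (congrArg Subtype.val (DFunLike.congr_fun e ⟨x, hx⟩) :).symm))
      (k.mem v)))).symm), fun L hL => eq_top_iff.2 fun x _ => by
      obtain ⟨y, hy, e⟩ := k.min (L.map K.subtype) (fun x hx => ⟨_, hL ⟨x, hx⟩, rfl⟩) x.2
      exact (Subtype.ext e : y = x) ▸ hy⟩
  have cc : Commute (MulAut.conjNormal c) (res K α (aK α αT)) := MulEquiv.ext fun x => Subtype.ext (by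
    simp [res_val, k.fix])
  obtain ⟨l, hl⟩ := pQ c
  have cT := d.gam cc (m := l) (by rw [← map_pow, hl, map_one])
  have qT : ∀ q : Q, MulAut.conjNormal q ∈ Tv (frattini K) := fun q => by
    obtain ⟨x, hx, j, rfl⟩ := k.gen q
    rw [map_mul, map_zpow]
    exact mul_mem (MulAut.conjNormal_val (h := (⟨x, hx⟩ : K)) ▸ inner d.pg _) (zpow_mem cT j)
  refine ⟨c, (frattini Q).map Q.subtype, ⟨c.2, MSS.le_normalizer_map_subtype _, mem_normalizer_fintype ?_, ?_, ?_⟩, ?_⟩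
  · rintro _ ⟨x, hx, rfl⟩
    exact ⟨τ x, fr τ x hx, hτ x⟩
  · refine ⟨τ c * c⁻¹, (QuotientGroup.eq_one_iff _).1 ?_, by simp [hτ, commutatorElement_def]⟩
    rw [QuotientGroup.mk_mul, QuotientGroup.mk_inv, mul_inv_eq_one]
    obtain ⟨x, hx, j, e⟩ := k.gen (τ c)
    have e1 := tv (hi ▸ inner pQ i) (τ c)
    rw [MulAut.mul_apply, show (QuotientGroup.mk (τ c) : Q ⧸ frattini Q) = (τ * α * τ⁻¹) (τ c) by simp [k.fix], cg, e,
      map_mul, map_zpow, k.fix, QuotientGroup.mk_mul, QuotientGroup.mk_mul, mul_left_inj] at e1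
    have e2 : (QuotientGroup.mk x : Q ⧸ frattini Q) * α x * α (α x) = 1 :=
      cube ((QuotientGroup.mk' _).comp K.subtype) (wc pQ) d.h3 d.mn ⟨x, hx⟩
    rw [(cg α).2 e1, e1, ws pQ, one_mul] at e2
    have e3 := congrArg (QuotientGroup.mk (s := frattini Q)) e
    rw [QuotientGroup.mk_mul, e2, one_mul, QuotientGroup.mk_zpow] at e3
    rcases zp (ws pQ c) j with ⟨-, p⟩ | p <;> rw [p] at e3
    · rw [e3, (cg1 τ).1 e3]
    · exact e3
  · by_contra! a
    refine moved pQ h.a3 h.a1 (hi ▸ inner pQ i) fun v => ?_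
    obtain ⟨y, hy, e⟩ := a _ v⁻¹.2
    rwa [show v⁻¹ * τ v = y⁻¹ from Subtype.ext (by simp [show y.1 = _ from e, hτ, commutatorElement_def, mul_assoc]),
      inv_mem_iff]
  rcases d.shape (τ := res K τ τK) cc cT (by
      convert qT ⟨_, tt⟩ using 1
      exact MulEquiv.ext fun x => Subtype.ext (DFunLike.congr_fun t2 x.1).symm) (by
      convert qT i using 1
      refine MulEquiv.ext fun x => Subtype.ext (Eq.trans ?_ (DFunLike.congr_fun hi x.1).symm)
      have : ∀ y : K, (((res K τ τK)⁻¹ y : K) : Q) = τ⁻¹ y := fun y => τ.injective (by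
        rw [← res_val (h := τK)]; simp)
      simp only [MulAut.mul_apply, res_val, this]) with
    ⟨a, b, e1, e2, e3, e4, e5, e6, e7, e8⟩ | ⟨e1, e2, u, e3, e4, e5, e6⟩
  · have v : ∀ {x y : K}, x = y → x.1.1 = y.1.1 := fun e => e ▸ rfl
    have cm : ∀ x : K, Commute c.1 x.1.1 := fun x => mul_inv_eq_iff_eq_mul.1 (v (e5 x))
    refine .inl ⟨a.1, b.1, le_antisymm (fun q hq => ?_) ((closure_le _).2 (by
      rintro _ (rfl | rfl | rfl) <;> exact Subtype.prop _)), v e2, v e3, v e4, cm a, cm b, (hτ _).symm.trans (v e6),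
      e7.imp (fun e => (hτ _).symm.trans (v e)) fun e => (hτ _).symm.trans (v e), fun i j n e => e8 i j ?_⟩
    · obtain ⟨x, hx, j, e⟩ := k.gen ⟨q, hq⟩
      rw [show q = x * c ^ j from congrArg Subtype.val e]
      refine mul_mem ?_ (zpow_mem (Subgroup.subset_closure (by simp)) j)
      exact (closure_le (comap (Q.subtype.comp K.subtype) (closure {a.1.1, b.1.1, c.1}))).2 (by
        rintro _ (rfl | rfl) <;> exact Subgroup.subset_closure (by simp)) (e1.ge (mem_top (⟨x, hx⟩ : K)))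
    · have : ((a ^ i * b ^ j : K) : Q) = c ^ n := Subtype.ext e
      exact Subtype.ext (by rw [res_val, this, map_zpow, k.fix])
  · have v : ∀ {x y : K}, x = y ↔ x.1.1 = y.1.1 := fun {x y} => ⟨fun e => e ▸ rfl, fun e => Subtype.ext (Subtype.ext e)⟩
    refine .inr ⟨K.map Q.subtype, (u ^ 2 : K), (res K τ τK (u ^ 2) : K), ⟨map_subtype_le K, ?_, fun q hq => ?_,
      fun j hj => ?_, ⟨_, Subtype.prop _, rfl⟩, ⟨_, Subtype.prop _, rfl⟩, mt (v (y := 1)).2 e3,
      mt (v (y := 1)).2 (mt (map_eq_one_iff _ (res K τ τK).injective).1 e3), mt v.2 e5.symm, v.1 e4,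
      v.1 (show res K τ τK (u ^ 2) ^ 2 = 1 by rw [← map_pow, e4, map_one]), fun q hq =>
      ⟨mul_inv_eq_iff_eq_mul.1 (v.1 (e6 _ (qT ⟨q, hq⟩)).1), mul_inv_eq_iff_eq_mul.1 (v.1 (e6 _ (qT ⟨q, hq⟩)).2)⟩,
      fun e => e5 (v.2 ((hτ _).trans (mul_inv_eq_iff_eq_mul.2 e.1.eq)))⟩, ⟨u, rfl⟩, (res K τ τK u : K),
      v.1 (map_pow _ u 2)⟩
    · rintro _ ⟨x, hx, rfl⟩ _ ⟨y, hy, rfl⟩
      exact v.1 (e1 ⟨x, hx⟩ ⟨y, hy⟩)
    · obtain ⟨x, hx, j, e⟩ := k.gen ⟨q, hq⟩
      exact ⟨x, ⟨x, hx, rfl⟩, j, congrArg Subtype.val e⟩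
    · obtain ⟨x, hx, e⟩ := hj
      obtain rfl : x = c ^ j := Subtype.ext e
      exact v.1 (e2 ⟨_, hx⟩ (Subtype.ext (by rw [res_val, map_zpow, k.fix])))

end CL.BC
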