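import Mathlib
import Cfsg.Agent.FUS.BC.Defs
import Cfsg.Agent.FUS.SR3Loc
import Cfsg.Agent.FUS.RF4.CxF1

/-!
S5217: an essential subgroup of rank at most three has `Out = S₃`.
-/

set_option autoImplicit false

namespace CL.BC

open Subgroup Cfsg CL.Fus CL.Bic
open scoped commutatorElement

variable {G : Type*} [Group G] [Finite G]

namespace Loc

section lin

variable {W : Type*} [CommGroup W] [Finite W]

omit [Finite W] in
theorem two_cases {τ : MulAut W} {Z : Subgroup W} {e : W} (h : TV.IsTv 2 τ Z e) (y : W) :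
    τ y = y ∨ τ y = y * e := by
  obtain ⟨n, hn⟩ := h.apply_eq y
  have e2 : e ^ (2 : ℤ) = 1 := by rw [zpow_two, ← pow_two, h.pow_eq_one]
  obtain ⟨k, rfl | rfl⟩ := Int.even_or_odd' n
  · exact Or.inl (by rw [hn, zpow_mul, e2, one_zpow, mul_one])
  · exact Or.inr (by rw [hn, zpow_add, zpow_mul, e2, one_zpow, one_mul, zpow_one])

theorem braid {τ τ' : MulAut W} {Z Z' : Subgroup W} {e e' : W} (h : TV.IsTv 2 τ Z e)
    (h' : TV.IsTv 2 τ' Z' e') (h1 : e' ∉ Z) (h2 : e ∉ Z') : (τ' * τ) ^ 3 = 1 ∧ τ' * τ ≠ 1 := by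
  have ee : e * e = 1 := by rw [← pow_two, h.pow_eq_one]
  have ee' : e' * e' = 1 := by rw [← pow_two, h'.pow_eq_one]
  have a1 : τ e = e := (h.fix e).2 h.mem
  have a2 : τ' e' = e' := (h'.fix e').2 h'.mem
  have a3 : τ e' = e' * e := (two_cases h e').resolve_left fun x => h1 ((h.fix _).1 x)
  have a4 : τ' e = e * e' := (two_cases h' e).resolve_left fun x => h2 ((h'.fix _).1 x)
  set β := τ' * τ with hβ
  have b1 : β e = e * e' := by rw [hβ, MulAut.mul_apply, a1, a4]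
  have b2 : β e' = e := by
    rw [hβ, MulAut.mul_apply, a3, map_mul, a2, a4, mul_comm e, ← mul_assoc, ee', one_mul]
  have c1 : e * β e * β (β e) = 1 := by
    rw [b1, map_mul, b1, b2, ← mul_assoc e e, ee, one_mul, mul_comm (e * e') e, ← mul_assoc e e, ee, one_mul,
      ee']
  have c2 : e' * β e' * β (β e') = 1 := by
    rw [b2, b1, mul_comm e' e, mul_mul_mul_comm, ee, ee', mul_one]
  have c3 : e' * β e * β (e' * β e) * β (β (e' * β e)) = 1 := by
    have : e' * β e = e := by rw [b1, mul_comm e, ← mul_assoc, ee', one_mul]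
    rw [this, c1]
  have k : ∀ y d, β y = y * d → d * β d * β (β d) = 1 → (β ^ 3) y = y := fun y d x1 x2 => by
    have : (β ^ 3) y = β (β (β y)) := by rw [pow_three]; rfl
    rw [this, x1, map_mul, x1, map_mul, map_mul, x1, mul_assoc y, mul_assoc y, x2, mul_one]
  refine ⟨MulEquiv.ext fun y => ?_, fun x => ?_⟩
  · rcases two_cases h y with x | x <;> rcases two_cases h' y with x' | x'
    · exact k y 1 (by rw [hβ, MulAut.mul_apply, x, x', mul_one]) (by simp)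
    · exact k y e' (by rw [hβ, MulAut.mul_apply, x, x']) c2
    · refine k y (β e) (by rw [b1, hβ, MulAut.mul_apply, x, map_mul, x', a4]) ?_
      have := congrArg β c1
      rwa [map_mul, map_mul, map_one] at this
    · exact k y _ (by rw [b1, hβ, MulAut.mul_apply, x, map_mul, x', a4, mul_assoc]) c3
  · rw [x, MulAut.one_apply] at b1
    exact h'.e_ne_one (left_eq_mul.1 b1)

theorem lin (hW : IsPGroup 2 W) (h2 : ∀ w : W, w * w = 1) (h8 : Nat.card W ≤ 8) {A T H : Subgroup (MulAut W)}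
    (hT : SylIn 2 T A) (h : RelSPE ⊥ T A H) : ∃ s ∈ T, s ≠ 1 ∧ s * s = 1 ∧ (∀ u ∈ T, u = 1 ∨ u = s) ∧
      ∃ g ∈ A, (g * s * g⁻¹ * s) ^ 3 = 1 ∧ g * s * g⁻¹ * s ≠ 1 := by
  have : Nontrivial T := (nontrivial_iff_ne_bot T).2 h.1.ne'
  obtain ⟨n, hn0, hn⟩ := (hT.isPGroup.nontrivial_iff_card).1 this
  obtain ⟨⟨s, hs⟩, ho⟩ := exists_prime_orderOf_dvd_card' (G := T) 2 (hn ▸ dvd_pow_self 2 hn0.ne')
  rw [← orderOf_coe] at ho
  dsimp only at ho
  have ss : s * s = 1 := by rw [← pow_two, ← ho, pow_orderOf_eq_one]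
  have s1 : s ≠ 1 := fun x => by rw [x, orderOf_one] at ho; omega
  have kf : ∀ y, y ∈ (EssSm.dl s).ker ↔ s y = y := fun y => by
    rw [MonoidHom.mem_ker]
    exact inv_mul_eq_one.trans eq_comm
  have le : (EssSm.dl s).range ≤ (EssSm.dl s).ker := by
    rintro _ ⟨y, rfl⟩
    rw [kf]
    show s (y⁻¹ * s y) = y⁻¹ * s y
    rw [map_mul, map_inv, ← MulAut.mul_apply, ss, MulAut.one_apply, inv_eq_of_mul_eq_one_right (h2 _),
      inv_eq_of_mul_eq_one_right (h2 _), mul_comm]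
  have idx : (EssSm.dl s).ker.index = 2 := by
    have i1 := card_le_of_le le
    rw [← index_ker] at i1
    have i2 := (EssSm.dl s).ker.card_mul_index
    have i3 : (EssSm.dl s).ker.index ≠ 0 := index_ne_zero_of_finite
    have i4 : (EssSm.dl s).ker.index ≠ 1 := fun x => s1 (MulEquiv.ext fun y =>
      (kf y).1 (index_eq_one.1 x ▸ mem_top y))
    by_contra i5
    have : 3 ≤ (EssSm.dl s).ker.index := by omega
    nlinarith
  obtain ⟨e, he⟩ := TV.exists_isTv hW s1 (hT.isPGroup.to_le (zpowers_le_of_mem hs)) idx fun z hz => (kf z).1 hz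
  obtain ⟨g, hg, -, g1, -⟩ := TV.exists_structure hW hT h hs he
  refine ⟨s, hs, s1, ss, fun u hu => ?_, g, hg, braid he (he.conj g) g1 ?_⟩
  · obtain ⟨n, rfl⟩ := mem_zpowers_iff.1 ((TV.eq_zpowers hW hT h hs he).le hu)
    have e2 : s ^ (2 : ℤ) = 1 := by rw [zpow_two, ss]
    obtain ⟨k, rfl | rfl⟩ := Int.even_or_odd' n
    · exact Or.inl (by rw [zpow_mul, e2, one_zpow])
    · exact Or.inr (by rw [zpow_add, zpow_mul, e2, one_zpow, one_mul, zpow_one])
  · rintro ⟨z, hz, x⟩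
    have x' : g⁻¹ e = z := by rw [← x]; exact g.symm_apply_apply z
    have m := (TV.le_of_apply_mem hW hT h hs he (A.inv_mem hg) (x' ▸ hz)).2
    have : g (g⁻¹ e) = e := g.apply_symm_apply e
    obtain ⟨n, hn⟩ := mem_zpowers_iff.1 m
    have e2 : e ^ (2 : ℤ) = 1 := by rw [zpow_two, h2]
    obtain ⟨k, rfl | rfl⟩ := Int.even_or_odd' n
    · rw [← hn, zpow_mul, e2, one_zpow, map_one] at this
      exact he.e_ne_one this.symm
    · rw [← hn, zpow_add, zpow_mul, e2, one_zpow, one_mul, zpow_one] at this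
      exact g1 (this.symm ▸ he.mem)

end lin

variable {V : Type*} [Group V]

/-- the action on the quotient by a characteristic subgroup -/
def rho (N : Subgroup V) [N.Normal] [h : N.Characteristic] : MulAut V →* MulAut (V ⧸ N) :=
  MonoidHom.mk' (fun α => QuotientGroup.congr N N α (characteristic_iff_map_eq.1 h α)) fun _ _ =>
    MulEquiv.ext fun x => QuotientGroup.induction_on x fun _ => rfl

theorem rho_eq_one (N : Subgroup V) [N.Normal] [N.Characteristic] (α : MulAut V) :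
    rho N α = 1 ↔ ∀ y, y⁻¹ * α y ∈ N :=
  ⟨fun h y => QuotientGroup.eq.1 (congrArg (fun β : MulAut (V ⧸ N) => β y) h).symm,
    fun h => MulEquiv.ext fun x => QuotientGroup.induction_on x fun y => (QuotientGroup.eq.2 (h y)).symm⟩

theorem main [Finite V] {A T H : Subgroup (MulAut V)} {u : MulAut V} (hr : EssSm.Rad 2 A u)
    (h8 : (frattini V).index ≤ 8) (hT : SylIn 2 T A) (h : RelSPE (Inn V) T A H) :
    ∃ τ ∈ T, τ ∉ Inn V ∧ (∀ s ∈ T, s ∈ Inn V ∨ s * τ⁻¹ ∈ Inn V) ∧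
      ∃ α : MulAut V, α ^ 3 = 1 ∧ α ≠ 1 ∧ τ * α * τ⁻¹ * α ∈ Inn V := by
  have hV := hr.pg
  let _ : CommGroup (V ⧸ frattini V) :=
    { QuotientGroup.Quotient.group (frattini V) with
      mul_comm := fun a b => QuotientGroup.induction_on a fun a => QuotientGroup.induction_on b fun b =>
        QuotientGroup.eq.2 (by
          have := PG.commutatorElement_mem_frattini hV b⁻¹ a⁻¹
          rwa [commutatorElement_def, inv_inv, inv_inv, mul_assoc, ← mul_inv_rev] at this) }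
  let ρ : A →* MulAut (V ⧸ frattini V) := (rho (frattini V)).comp A.subtype
  have hk : ∀ α : A, ρ α = 1 ↔ α.1 ∈ Inn V := fun α => (rho_eq_one _ _).trans
    ⟨fun x => hr.mem_inn le_rfl le_rfl (EssSm.inv_of_char _ _) (EssSm.inv_of_char _ _) α.2
      (fun y _ => x y) (fun y _ => x y) x, fun ⟨c, hc⟩ y => by
        have := PG.commutatorElement_mem_frattini hV y⁻¹ c
        rw [Subgroup.coe_subtype, ← hc, MulAut.conj_apply]
        rwa [commutatorElement_def, inv_inv, mul_assoc, mul_assoc, ← mul_assoc c] at this⟩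
  obtain ⟨_, ⟨τ, hτ, rfl⟩, s1, ss, two, _, ⟨γ, rfl⟩, b3, b1⟩ := lin (hV.to_quotient (frattini V))
    (fun w => QuotientGroup.induction_on w fun y => (QuotientGroup.eq_one_iff (y * y)).2
      (by rw [← pow_two]; exact PG.pow_mem_frattini hV y)) h8 (SR3.sylIn_map_hom hT ρ) (SR3.relSPE_map h hT.le ρ hk)
  have e : ρ (γ * τ * γ⁻¹ * τ) = ρ γ * ρ τ * (ρ γ)⁻¹ * ρ τ := by simp only [map_mul, map_inv]
  have inv : ρ τ * ρ (γ * τ * γ⁻¹ * τ) * (ρ τ)⁻¹ = (ρ (γ * τ * γ⁻¹ * τ))⁻¹ := by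
    have := inv_eq_of_mul_eq_one_right ss
    rw [e]
    simp only [mul_inv_rev, inv_inv, this]
    rw [mul_assoc, mul_assoc _ (ρ τ) (ρ τ), ss, mul_one]
    simp only [mul_assoc]
  rw [← e] at b3 b1
  generalize γ * τ * γ⁻¹ * τ = β at b3 b1 inv
  have hI : IsPGroup 2 (Inn V) := hV.of_surjective _ (MonoidHom.rangeRestrict_surjective _)
  obtain ⟨r, hr'⟩ := hI ⟨_, (hk (β ^ 3)).1 (by rw [map_pow, b3])⟩
  have hr2 : ((β : MulAut V) ^ 3) ^ 2 ^ r = 1 := congrArg Subtype.val hr'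
  refine ⟨τ, hτ, fun x => s1 ((hk τ).2 x), fun s hs => ?_, β ^ 2 ^ r, ?_, fun x => b1 ?_, ?_⟩
  · rcases two _ (mem_map_of_mem ρ (x := ⟨s, hT.le hs⟩) hs) with x | x
    · exact Or.inl ((hk _).1 x)
    · exact Or.inr ((hk (⟨s, hT.le hs⟩ * τ⁻¹)).1 (by rw [map_mul, map_inv, x, mul_inv_cancel]))
  · rw [← pow_mul, mul_comm, pow_mul, hr2]
  · have x' : ρ β ^ 2 ^ r = 1 := by
      rw [← map_pow, show β ^ 2 ^ r = 1 from Subtype.ext x, map_one]
    exact pow_eq_one_iff_of_coprime (Nat.Coprime.pow_right r (by decide : Nat.Coprime 3 2)) |>.1 ⟨b3, x'⟩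
  · refine (hk (τ * β ^ 2 ^ r * τ⁻¹ * β ^ 2 ^ r)).1 ?_
    rw [map_mul, map_mul, map_mul, map_inv, map_pow, ← conj_pow, inv, inv_pow, inv_mul_cancel]

end Loc

/-- `Γ = Aut_F(Q)`, `T = autInducedBy ⊤ Q` (`SylIn 2 T Γ`), `I = Inn Q`, `RelSPE I T Γ H`
(`exists_relSPE_of_essential`). `ρ : Γ →* MulAut W`, `W = Q / Φ(Q)` (`SR3.exists_sec`, `SR3.exists_rep`, or by hand)
has kernel `I`: the kernel is a normal 2-subgroup (`MC.eq_one_of_frattini`), so `≤ O₂(Γ) = I` (`RelSPE.map_pCore_eq`).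
`|W| ≤ 8` (`index_frattini_le_eight` for `M.subgroupOf Q`), exponent 2. Take `τ ∈ T ∖ I`, `τ ^ 2 ∈ I`; `s = ρ τ` is an
involution, `w ↦ w⁻¹ s w` is a homomorphism with kernel `Z = C_W(s)` and image `≤ Z`, image `≠ 1`, so `Z.index = 2`;
`TV.exists_isTv`, `SR3.relSPE_map`, `SR3.sylIn_map_hom`, `TV.card_eq` give `|ρ T| = 2`: this is `nq` (with
`cjAut_mem_inn_iff`). For `γ ∈ Γ ∖ H`, `β = γ τ γ⁻¹ τ` has `β ^ k ∈ I`, `k` odd (`RF4.CxF.odd_pair`), `β ∉ I`
(else `γ τ γ⁻¹ ∈ T`, `RelSPE.mem_of_conj_mem`), `τ β τ⁻¹ β ∈ I`. `ρ β` fixes `D = Z ⊓ γ Z` (index `≤ 4`) pointwise, and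
`(ρ β) ^ 3 = 1`: (odd order element of `Aut(2³)` fixing a non-identity element; or `|Aut W| ∣ 168`
(`A10S.aut8`) and an element of order 7 fixes only 1; `|W| ≤ 4`: `|Aut W| ∣ 6`). So `β ^ 3 ∈ I`, a 2-group:
`β ^ (3 * 2 ^ r) = 1`, `α = β ^ 2 ^ r`. -/
theorem exists_S3 (hG : IsPGroup 2 G) {F : FusionSystem (⊤ : Subgroup G)} (hF : F.IsSaturated 2)
    {Q M : Subgroup G} (hQ : F.IsEssential 2 Q) (hM : M.index = 2) (hm : IsMetacyclic M) :
    ∃ (t : G) (α : MulAut Q), S3 Q t α := by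
  have hS : IsPGroup 2 (⊤ : Subgroup G) := hG.to_subgroup ⊤
  obtain ⟨H, hH⟩ := exists_relSPE_of_essential hS hF hQ
  obtain ⟨u, hu⟩ := EssSm.exists_rad_of_essential hS hF hQ
  have hc := centralizerIn_le_of_isCentric hQ.1
  obtain ⟨τ, hτ, t1, t2, α, a3, a1, ai⟩ := Loc.main hu
    (index_frattini_le_eight (hG.to_subgroup Q) (sub_index_le hM) (sub_metacyclic hm))
    (sylIn_of_fullyNormalized hS hF hQ.2.1) hH
  obtain ⟨t, -, tn, rfl⟩ := mem_autInducedBy_iff_cjAut.1 hτ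
  refine ⟨t, α, ⟨fun g hg => hc ⟨mem_top g, hg⟩, tn,
    fun x => t1 ((cjAut_mem_inn_iff le_top hc (mem_top t) tn).2 x), fun g hg => ?_⟩, a3, a1, ai⟩
  refine (t2 _ (cjAut_mem_autInducedBy (mem_top g) hg)).imp (cjAut_mem_inn_iff le_top hc (mem_top g) hg).1
    fun x => (cjAut_mem_inn_iff le_top hc (mem_top _) (mul_mem hg (inv_mem tn))).1 ?_
  rwa [cjAut_mul hg (inv_mem tn), cjAut_inv tn]

end CL.BC
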