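import Mathlib
import Cfsg.Agent.FUS.BC.Defs
import Cfsg.Agent.FUS.BCGLO

/-!
S5217: saturation of the system generated by `Inn(G)` and one automorphism of order three.
-/

set_option autoImplicit false

namespace CL.BC

open Subgroup Cfsg CL.Fus CL.Bic
open scoped commutatorElement

variable {G : Type*} [Group G] [Finite G]

namespace Sat

/-- the system of all injective homomorphisms -/
def univ (G : Type*) [Group G] : FusionSystem (⊤ : Subgroup G) :=
  ofMor ⊤ (fun P f => Set.InjOn f P) (fun h e => h.congr e) (fun _ => ⟨le_top, fun _ _ => mem_top _⟩)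
    (fun h => h) (fun _ _ => (cj_injective _).injOn)
    (fun _ _ hf hg hm => hg.comp hf hm)
    (fun {P f} h hi => ⟨toFn (P.subtype.comp (h.equiv hi rfl).symm.toMonoidHom), isHomOn_toFn _,
      fun a ha b hb e => by
        rw [toFn_of_mem _ ha, toFn_of_mem _ hb] at e
        exact congrArg Subtype.val ((h.equiv hi rfl).symm.injective (Subtype.ext e)),
      fun x hx => by
        rw [toFn_of_mem _ (mem_img_of_mem f hx)]
        have : (⟨f x, mem_img_of_mem f hx⟩ : img f P) = h.equiv hi rfl ⟨x, hx⟩ :=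
          Subtype.ext (h.equiv_apply hi rfl ⟨x, hx⟩).symm
        simp [this]⟩)

omit [Finite G] in
theorem mor_univ {P : Subgroup G} {f : G → G} : Mor (univ G) P f ↔ IsHomOn P f ∧ Set.InjOn f P :=
  mor_ofMor_iff

variable {Q : Subgroup G}

/-- the generators -/
def X (Γ : Subgroup (MulAut Q)) (R : Subgroup G) (g : G → G) : Prop :=
  (R = ⊤ ∧ ∃ s, g = cj s) ∨ (R = Q ∧ ∃ β ∈ Γ, g = autFun β)

omit [Finite G] in
theorem injOn_autFun (β : MulAut Q) : Set.InjOn (autFun β) Q := fun a ha b hb e => by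
  rw [← autFun_inv_autFun β ha, e, autFun_inv_autFun β hb]

/-- the generated system -/
def sys (Γ : Subgroup (MulAut Q)) : FusionSystem (⊤ : Subgroup G) :=
  chainSys (univ G) ⊤ le_rfl (X Γ)
    (by
      rintro R g (⟨rfl, s, rfl⟩ | ⟨rfl, β, -, rfl⟩)
      · exact ⟨mor_cj _ le_rfl (mem_top s), le_top, fun _ _ => mem_top _⟩
      · exact ⟨mor_univ.2 ⟨isHomOn_autFun β, injOn_autFun β⟩, le_top, fun _ _ => mem_top _⟩)
    (by
      rintro R g (⟨rfl, s, rfl⟩ | ⟨rfl, β, hβ, rfl⟩)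
      · exact ⟨⊤, cj s⁻¹, Or.inl ⟨rfl, _, rfl⟩, fun x _ => ⟨mem_top _, cj_inv_cj s x⟩⟩
      · exact ⟨R, autFun β⁻¹, Or.inr ⟨rfl, _, Γ.inv_mem hβ, rfl⟩,
          fun x hx => ⟨autFun_mem β hx, autFun_inv_autFun β hx⟩⟩)
    fun s _ => .single (R := ⊤) (Or.inl ⟨rfl, s, rfl⟩) le_rfl

variable {Γ : Subgroup (MulAut Q)}

omit [Finite G] in
theorem mor_sys {P : Subgroup G} {f : G → G} : Mor (sys Γ) P f ↔ Chain (X Γ) P f :=
  mor_chainSys.trans ⟨fun h => h.2, fun h => ⟨le_top, h⟩⟩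

omit [Finite G] in
theorem mor_aut {β : MulAut Q} (h : β ∈ Γ) : Mor (sys Γ) Q (autFun β) :=
  mor_sys.2 (.single (Or.inr ⟨rfl, β, h, rfl⟩) le_rfl)

omit [Finite G] in
theorem inner_or {P : Subgroup G} {f : G → G} (h : Mor (sys Γ) P f) :
    (∃ s, Set.EqOn f (cj s) P) ∨ ∃ s, ∀ x ∈ P, cj s x ∈ Q := by
  replace h := mor_sys.1 h
  induction h with
  | id h => exact Or.inl ⟨1, fun x hx => by rw [h x hx, cj_one]⟩
  | step _ h2 h3 h4 ih =>
    rcases ih with ⟨s, hs⟩ | ih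
    · rcases h2 with ⟨rfl, s', rfl⟩ | ⟨rfl, β, -, rfl⟩
      · exact Or.inl ⟨s' * s, fun x hx => by rw [h4 hx, Function.comp_apply, hs hx, cj_mul]⟩
      · exact Or.inr ⟨s, fun x hx => hs hx ▸ h3 x hx⟩
    · exact Or.inr ih

theorem exists_of_mor (hA : autInducedBy ⊤ Q ≤ Γ) {f : G → G} (h : Mor (sys Γ) Q f) :
    ∃ s, ∃ β ∈ Γ, ∀ x ∈ Q, f x = cj s (autFun β x) := by
  replace h := mor_sys.1 h
  induction h with
  | id h => exact ⟨1, 1, one_mem _, fun x hx => by rw [h x hx, cj_one, autFun_one hx]⟩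
  | step _ h2 h3 h4 ih =>
    obtain ⟨s, β, hβ, e⟩ := ih
    rcases h2 with ⟨rfl, s', rfl⟩ | ⟨rfl, β', hβ', rfl⟩
    · exact ⟨s' * s, β, hβ, fun x hx => by rw [h4 hx, Function.comp_apply, e x hx, cj_mul]⟩
    · have hn := mem_normalizer_of_cj_mem (g := s) fun y hy => by
        rw [← autFun_autFun_inv β hy, ← e _ (autFun_mem _ hy)]
        exact h3 _ (autFun_mem _ hy)
      refine ⟨1, β' * cjAut _ s hn * β, mul_mem (mul_mem hβ' (hA (cjAut_mem_autInducedBy (mem_top s) hn))) hβ,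
        fun x hx => ?_⟩
      rw [h4 hx, Function.comp_apply, e x hx, cj_one, autFun_mul _ _ hx, autFun_mul _ _ (autFun_mem _ hx),
        autFun_cjAut hn (autFun_mem _ hx)]

omit [Finite G] in
theorem exists_of_normal (hA : autInducedBy ⊤ Q ≤ Γ) (hn : Q.Normal) {P : Subgroup G} (hP : P ≤ Q) {f : G → G}
    (h : Mor (sys Γ) P f) : ∃ β ∈ Γ, Set.EqOn f (autFun β) P := by
  replace h := mor_sys.1 h
  induction h with
  | id h => exact ⟨1, one_mem _, fun x hx => by rw [h x hx, autFun_one (hP hx)]⟩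
  | step _ h2 h3 h4 ih =>
    obtain ⟨β, hβ, e⟩ := ih
    rcases h2 with ⟨rfl, s, rfl⟩ | ⟨rfl, β', hβ', rfl⟩
    · have hs : s ∈ normalizer (Q : Set G) := normalizer_eq_top_iff.2 hn ▸ mem_top s
      exact ⟨cjAut _ s hs * β, mul_mem (hA (cjAut_mem_autInducedBy (mem_top s) hs)) hβ, fun x hx => by
        rw [h4 hx, Function.comp_apply, e hx, autFun_mul _ _ (hP hx), autFun_cjAut hs (autFun_mem _ (hP hx))]⟩
    · exact ⟨β' * β, mul_mem hβ' hβ, fun x hx => by
        rw [h4 hx, Function.comp_apply, e hx, autFun_mul _ _ (hP hx)]⟩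

theorem autGroup_eq (hA : autInducedBy ⊤ Q ≤ Γ) : (sys Γ).autGroup Q = Γ := by
  refine le_antisymm (fun γ hγ => ?_) fun β hβ => (mem_autGroup_iff le_top).2 (mor_aut hβ)
  obtain ⟨s, β, hβ, e⟩ := exists_of_mor hA (mor_autFun le_top hγ)
  have : γ * β⁻¹ ∈ autInducedBy ⊤ Q := mem_autInducedBy_iff.2 ⟨s, mem_top s, fun x hx => by
    rw [autFun_mul _ _ hx, e _ (autFun_mem _ hx), autFun_autFun_inv β hx]⟩
  simpa using mul_mem (hA this) hβ

omit [Finite G] in
theorem autGroup_of_not {P : Subgroup G} (h : ¬ ∃ s, ∀ x ∈ P, cj s x ∈ Q) :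
    (sys Γ).autGroup P = autInducedBy ⊤ P := by
  refine le_antisymm (fun γ hγ => ?_) (autInducedBy_le_autGroup _ le_top)
  obtain ⟨s, hs⟩ := (inner_or (mor_autFun le_top hγ)).resolve_right h
  exact mem_autInducedBy_iff.2 ⟨s, mem_top s, hs⟩

theorem saturated (hG : IsPGroup 2 G) (hQ : Q ≠ ⊤) (hsyl : SylIn 2 (autInducedBy ⊤ Q) Γ)
    (hTI : ∀ β ∈ Γ, β ∉ autInducedBy ⊤ Q → ∀ (g : G) (hg : g ∈ normalizer (Q : Set G)),
      β * cjAut Q g hg * β⁻¹ ∈ autInducedBy ⊤ Q → g ∈ Q)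
    (hmin : Q.Normal ∨ ∀ R : Subgroup G, R < Q → ∃ β ∈ Γ,
      ¬ centralizer (img (autFun β) R : Set G) ≤ img (autFun β) R) : (sys Γ).IsSaturated 2 := by
  have hS : IsPGroup 2 (⊤ : Subgroup G) := hG.to_subgroup ⊤
  have hA := hsyl.le
  have htop : ¬ ∃ s, ∀ x ∈ (⊤ : Subgroup G), cj s x ∈ Q := by
    rintro ⟨s, hs⟩
    exact hQ (eq_top_iff.2 fun x _ => cj_cj_inv s x ▸ hs _ (mem_top _))
  refine isSaturated_of_chain hS {R | R = ⊤ ∨ (sys Γ).IsConj Q R} ?_ ?_ ?_ ?_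
  · rintro P (rfl | hP) R hR
    · exact Or.inl (isConj_top_eq hR)
    · exact Or.inr (isConj_trans hP hR)
  · rintro P (rfl | hP) -
    · refine ⟨⊤, isConj_refl _ le_rfl, isFullyAutomized_iff.2 ⟨le_rfl, ?_⟩, isReceptive_iff.2 ⟨le_rfl, ?_⟩⟩
      · rw [autGroup_of_not htop]
        exact sylIn_self (isPGroup_autInducedBy hS _)
      · intro R f hf e
        have : R = ⊤ := isConj_top_eq (isConj_symm (e ▸ hf.isConj))
        subst this
        exact ⟨f, hf.mono le_top, fun _ _ => rfl⟩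
    · refine SatAt.of_isConj (Q := Q) ⟨Q, isConj_refl _ le_top, isFullyAutomized_iff.2 ⟨le_top, ?_⟩,
        isReceptive_iff.2 ⟨le_top, ?_⟩⟩ (isConj_symm hP)
      · rwa [autGroup_eq hA]
      · intro R f hf e
        obtain ⟨k, hk, e1, e2, e3⟩ := hf.exists_inv' e
        obtain ⟨s, β, hβ, e4⟩ := exists_of_mor hA hk
        have hfm : ∀ x ∈ R, f x ∈ Q := fun x hx => e ▸ mem_img_of_mem f hx
        have hkm : ∀ y ∈ Q, k y ∈ R := fun y hy => e1 ▸ mem_img_of_mem k hy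
        have e5 : ∀ x ∈ R, cj s (autFun β (f x)) = x := fun x hx => by rw [← e4 _ (hfm x hx), e2 x hx]
        have e6 : ∀ x ∈ R, autFun β (f x) = cj s⁻¹ x := fun x hx => by
          conv_rhs => rw [← e5 x hx, cj_inv_cj]
        have e7 : ∀ y ∈ Q, cj s y ∈ R := fun y hy => by
          rw [← autFun_autFun_inv β hy, ← e4 _ (autFun_mem _ hy)]
          exact hkm _ (autFun_mem _ hy)
        by_cases hb : β ∈ autInducedBy ⊤ Q
        · obtain ⟨u, -, hu⟩ := mem_autInducedBy_iff.1 hb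
          refine ⟨cj (s * u)⁻¹, mor_cj _ le_top (mem_top _), fun x hx => ?_⟩
          conv_lhs => rw [← e5 x hx, hu (hfm x hx), ← cj_mul s u, cj_inv_cj]
        · refine ⟨f, hf.mono fun g hg => ?_, fun _ _ => rfl⟩
          obtain ⟨-, hgn, u, -, hu⟩ := mem_Nphi.1 hg
          have hm : ∀ y ∈ Q, cj (s⁻¹ * g * s) y = autFun β (f (cj g (cj s y))) := fun y hy => by
            rw [e6 _ (cj_mem_of_mem_normalizer hgn (e7 y hy)), cj_mul, cj_mul]
          have hn : s⁻¹ * g * s ∈ normalizer (Q : Set G) := mem_normalizer_of_cj_mem fun y hy => by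
            rw [hm y hy]
            exact autFun_mem _ (hfm _ (cj_mem_of_mem_normalizer hgn (e7 y hy)))
          have := hTI β⁻¹ (inv_mem hβ) (fun h => hb (by simpa using inv_mem h)) _ hn
            (mem_autInducedBy_iff.2 ⟨u, mem_top u, fun y hy => by
              have h1 := autFun_mem β hy
              rw [inv_inv, autFun_mul _ _ hy, autFun_mul _ _ h1, autFun_cjAut hn h1, hm _ h1,
                autFun_inv_autFun β (hfm _ (cj_mem_of_mem_normalizer hgn (e7 _ h1))), hu _ (e7 _ h1),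
                ← e4 y hy, e3 y hy]⟩)
          have h2 := e7 _ this
          rwa [cj_apply, show s * (s⁻¹ * g * s) * s⁻¹ = g by group] at h2
  · intro P f hf
    have h := mor_sys.1 hf
    clear hf
    induction h with
    | id h => exact .id h
    | step _ h2 h3 h4 ih =>
      refine .step ih ?_ h3 h4
      rcases h2 with ⟨rfl, s, rfl⟩ | ⟨rfl, β, hβ, rfl⟩
      · exact ⟨mor_cj _ le_rfl (mem_top s), Or.inl rfl⟩
      · exact ⟨mor_aut hβ, Or.inr (isConj_refl _ le_top)⟩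
  · intro P hc hP
    have key : ∀ {P' N : Subgroup G}, (sys Γ).IsCentric P' → P' < N →
        (sys Γ).autGroup P' ≤ normalizer (autInducedBy N P' : Set (MulAut P')) →
        ¬ (autInducedBy ⊤ P' ⊓ (pCore 2 ((sys Γ).autGroup P')).map ((sys Γ).autGroup P').subtype ≤ Inn P') := by
      intro P' N hc' hlt hn hle
      obtain ⟨r, hr, hrn, hrP⟩ := exists_mem_normalizer_not_mem hS hlt le_top
      refine hrP ((cjAut_mem_inn_iff le_top (centralizerIn_le_of_isCentric hc') (mem_top r) hrn).1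
        (hle ⟨cjAut_mem_autInducedBy (mem_top r) hrn, ?_⟩))
      exact le_map_pCore ((autInducedBy_mono le_top _).trans (autInducedBy_le_autGroup _ le_top)) hn
        (isPGroup_autInducedBy (hG.to_subgroup N) _) (cjAut_mem_autInducedBy hr hrn)
    by_cases hs : ∃ s, ∀ x ∈ P, cj s x ∈ Q
    · obtain ⟨s, hs⟩ := hs
      have hcj : (sys Γ).IsConj P (img (cj s) P) := (mor_cj _ le_top (mem_top s)).isConj
      have hc' := isCentric_of_isConj hc hcj
      have hle : img (cj s) P ≤ Q := img_le_iff.2 hs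
      have hlt : img (cj s) P < Q := lt_of_le_of_ne hle fun e => hP (Or.inr (isConj_symm (e ▸ hcj)))
      generalize img (cj s) P = P' at hcj hc' hle hlt
      rcases hmin with hn | hmin
      · refine ⟨P', hcj, key hc' hlt fun γ hγ => ?_⟩
        have aux : ∀ γ ∈ (sys Γ).autGroup P', ∀ δ ∈ autInducedBy Q P', γ * δ * γ⁻¹ ∈ autInducedBy Q P' := by
          intro γ hγ δ hδ
          obtain ⟨β, -, e⟩ := exists_of_normal hA hn hle (mor_autFun le_top hγ)
          obtain ⟨q, hq, eq⟩ := mem_autInducedBy_iff.1 hδ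
          refine mem_autInducedBy_iff.2 ⟨autFun β q, autFun_mem β hq, fun y hy => ?_⟩
          have h1 := autFun_mem γ⁻¹ hy
          rw [autFun_mul _ _ hy, autFun_mul _ _ h1, e (autFun_mem δ h1), eq h1,
            (isHomOn_autFun β).map_cj hq (hle h1), ← e h1, autFun_autFun_inv γ hy]
        exact mem_normalizer_iff.2 fun δ => ⟨aux γ hγ δ, fun h => by
          simpa [mul_assoc] using aux γ⁻¹ (inv_mem hγ) _ h⟩
      · obtain ⟨β, hβ, hb⟩ := hmin P' hlt
        exact absurd (fun y hy => (isCentric_iff.1 hc').2 _ ((mor_aut hβ).mono hle) ⟨mem_top y, hy⟩) hb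
    · refine ⟨P, isConj_refl _ le_top, key hc (lt_top_iff_ne_top.2 fun e => hP (Or.inl e)) ?_⟩
      rw [autGroup_of_not hs]
      exact le_normalizer

theorem ne_inner (hA : autInducedBy ⊤ Q ≤ Γ) {β : MulAut Q} (hβ : β ∈ Γ) (h : β ∉ autInducedBy ⊤ Q) :
    sys Γ ≠ innerFusionSystem ⊤ := fun e => by
  obtain ⟨g, hg, eg⟩ := eq_inner_iff.1 e Q _ (mor_aut hβ)
  exact h (mem_autInducedBy_iff.2 ⟨g, hg, eg⟩)

/-- the dihedral group generated by `r`, `s` -/
def dih {O : Type*} [Group O] (r s : O) (h2 : s * s = 1) (h : s * r * s⁻¹ = r⁻¹) : Subgroup O where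
  carrier := {y | ∃ i : ℤ, y = r ^ i ∨ y = r ^ i * s}
  one_mem' := ⟨0, Or.inl (zpow_zero r).symm⟩
  mul_mem' := by
    have k : ∀ j : ℤ, s * r ^ j = r ^ (-j) * s := fun j => by
      rw [zpow_neg, ← inv_zpow, ← h, conj_zpow]; group
    rintro _ _ ⟨i, rfl | rfl⟩ ⟨j, rfl | rfl⟩
    · exact ⟨i + j, Or.inl (zpow_add r i j).symm⟩
    · exact ⟨i + j, Or.inr (by rw [zpow_add, mul_assoc])⟩
    · exact ⟨i + -j, Or.inr (by rw [mul_assoc, k, zpow_add, mul_assoc])⟩
    · exact ⟨i + -j, Or.inl (by rw [mul_assoc, ← mul_assoc s, k, mul_assoc, h2, mul_one, zpow_add])⟩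
  inv_mem' := by
    have k : ∀ j : ℤ, s * r ^ j = r ^ (-j) * s := fun j => by
      rw [zpow_neg, ← inv_zpow, ← h, conj_zpow]; group
    rintro _ ⟨i, rfl | rfl⟩
    · exact ⟨-i, Or.inl (zpow_neg r i).symm⟩
    · exact ⟨i, Or.inr (by rw [mul_inv_rev, inv_eq_of_mul_eq_one_right h2, ← zpow_neg, k, neg_neg])⟩

omit [Finite G] in
theorem eq_one_of_pow {y : G} {k : ℕ} (h2 : y ^ 2 ^ k = 1) (h3 : y ^ 3 = 1) : y = 1 := by
  have h := Nat.dvd_gcd (orderOf_dvd_of_pow_eq_one h2) (orderOf_dvd_of_pow_eq_one h3)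
  rw [Nat.Coprime.gcd_eq_one (Nat.Coprime.pow_left k (by norm_num))] at h
  exact orderOf_eq_one_iff.1 (Nat.dvd_one.1 h)

end Sat

open Sat in
theorem exists_sat (hG : IsPGroup 2 G) {Q : Subgroup G} {t : G} {α : MulAut Q} (h : S3 Q t α) (hmin : Min Q α) :
    ∃ F : FusionSystem (⊤ : Subgroup G), F.IsSaturated 2 ∧ F ≠ innerFusionSystem ⊤ := by
  have hI : (Inn Q).Normal := ⟨fun δ hδ γ => by
    obtain ⟨q, hq, eq⟩ := mem_inn_iff.1 hδ
    refine mem_inn_iff.2 ⟨autFun γ q, autFun_mem γ hq, fun y hy => ?_⟩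
    have h1 := autFun_mem γ⁻¹ hy
    rw [autFun_mul _ _ hy, autFun_mul _ _ h1, eq h1, (isHomOn_autFun γ).map_cj hq h1, autFun_autFun_inv γ hy]⟩
  let π := QuotientGroup.mk' (Inn Q)
  have hπ : ∀ γ, π γ = 1 ↔ γ ∈ Inn Q := fun γ => QuotientGroup.eq_one_iff γ
  have hinn : ∀ {g : G} (hg : g ∈ normalizer (Q : Set G)), π (cjAut Q g hg) = 1 ↔ g ∈ Q := fun hg =>
    (hπ _).trans (cjAut_mem_inn_iff (S := ⊤) le_top (fun y hy => h.n.cent hy.2) (mem_top _) hg)
  set τ := cjAut Q t h.n.tn with hτ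
  have hs1 : π τ ≠ 1 := fun e => h.n.tq ((hinn _).1 e)
  have hs2 : π τ * π τ = 1 := by
    rw [← map_mul, hτ, ← cjAut_mul, hinn]
    exact (h.n.nq _ (mul_mem h.n.tn h.n.tn)).resolve_right fun e => h.n.tq (by simpa using e)
  have hr3 : π α ^ 3 = 1 := by rw [← map_pow, h.a3, map_one]
  have hi3 : ∀ i : ℤ, (π α ^ i) ^ 3 = 1 := fun i => by
    rw [← zpow_natCast, ← zpow_mul, mul_comm, zpow_mul, zpow_natCast, hr3, one_zpow]
  have hsr : π τ * π α * (π τ)⁻¹ = (π α)⁻¹ := by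
    have := (hπ _).2 h.inv
    rw [map_mul, map_mul, map_mul, map_inv] at this
    exact eq_inv_of_mul_eq_one_left this
  have k : ∀ j : ℤ, π τ * π α ^ j = π α ^ (-j) * π τ := fun j => by
    rw [zpow_neg, ← inv_zpow, ← hsr, conj_zpow]; group
  have hA : ∀ γ, γ ∈ autInducedBy ⊤ Q ↔ π γ = 1 ∨ π γ = π τ := fun γ => by
    constructor
    · intro hγ
      obtain ⟨g, -, hg, rfl⟩ := mem_autInducedBy_iff_cjAut.1 hγ
      refine (h.n.nq g hg).imp (hinn hg).2 fun e => ?_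
      have := (hinn (mul_mem hg (inv_mem h.n.tn))).2 e
      rwa [cjAut_mul hg (inv_mem h.n.tn), cjAut_inv h.n.tn, map_mul, map_inv, mul_inv_eq_one] at this
    · rintro (e | e)
      · exact inn_le_autInducedBy le_top ((hπ _).1 e)
      · have : γ * τ⁻¹ ∈ Inn Q := (hπ _).1 (by rw [map_mul, map_inv, e, mul_inv_cancel])
        simpa using mul_mem (inn_le_autInducedBy (K := ⊤) le_top this)
          (show τ ∈ _ from cjAut_mem_autInducedBy (mem_top t) h.n.tn)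
  have hτA : τ ∈ autInducedBy ⊤ Q := (hA τ).2 (Or.inr rfl)
  have hpA : IsPGroup 2 (autInducedBy ⊤ Q) := isPGroup_autInducedBy (hG.to_subgroup ⊤) Q
  have hαA : α ∉ autInducedBy ⊤ Q := fun e => by
    obtain ⟨n, hn⟩ := hpA ⟨α, e⟩
    exact h.a1 (eq_one_of_pow (congrArg Subtype.val hn) h.a3)
  let Γ := (dih (π α) (π τ) hs2 hsr).comap π
  have hΓ : ∀ γ, γ ∈ Γ ↔ ∃ i : ℤ, π γ = π α ^ i ∨ π γ = π α ^ i * π τ := fun γ => Iff.rfl
  have hAΓ : autInducedBy ⊤ Q ≤ Γ := fun γ hγ => (hΓ γ).2 ⟨0, by simpa using (hA γ).1 hγ⟩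
  have hαΓ : α ∈ Γ := (hΓ α).2 ⟨1, Or.inl (zpow_one _).symm⟩
  refine ⟨sys Γ, saturated hG (fun e => h.n.tq (e ▸ mem_top t)) ⟨hAΓ, hpA, fun C hC hp hAC => ?_⟩ ?_ ?_,
    ne_inner hAΓ hαΓ hαA⟩
  · have aux : ∀ γ ∈ C, ∀ i : ℤ, π γ = π α ^ i → π γ = 1 := fun γ hγ i e => by
      obtain ⟨n, hn⟩ := hp ⟨γ, hγ⟩
      have hn' : γ ^ 2 ^ n = 1 := congrArg Subtype.val hn
      exact eq_one_of_pow (k := n) (by rw [← map_pow, hn', map_one]) (e ▸ hi3 i)
    refine le_antisymm (fun γ hγ => (hA γ).2 ?_) hAC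
    obtain ⟨i, e | e⟩ := (hΓ γ).1 (hC hγ)
    · exact Or.inl (aux γ hγ i e)
    · have := aux _ (mul_mem hγ (inv_mem (hAC hτA))) i (by rw [map_mul, map_inv, e, mul_inv_cancel_right])
      rw [map_mul, map_inv, mul_inv_eq_one] at this
      exact Or.inr this
  · intro β hβ hb g hg hm
    refine (hinn hg).1 (((hA _).1 (cjAut_mem_autInducedBy (mem_top g) hg)).resolve_right fun e => ?_)
    obtain ⟨i, ei⟩ := (hΓ β).1 hβ
    have h1 : π β * π τ * (π β)⁻¹ = (π α ^ i) ^ 2 * π τ := by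
      rcases ei with ei | ei
      · rw [ei, mul_assoc, ← zpow_neg, k, neg_neg, sq, mul_assoc]
      · rw [ei, mul_inv_rev, mul_assoc, mul_inv_cancel_left, mul_assoc, ← zpow_neg, k, neg_neg, sq, mul_assoc]
    have h2 := (hA _).1 hm
    rw [map_mul, map_mul, map_inv, e, h1] at h2
    rcases h2 with h2 | h2
    · refine hs1 (eq_one_of_pow (k := 1) (by rw [pow_one, sq, hs2]) ?_)
      rw [eq_inv_of_mul_eq_one_right h2, inv_pow, ← pow_mul, mul_comm, pow_mul, hi3, one_pow, inv_one]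
    · have h3 : π α ^ i = 1 := eq_one_of_pow (k := 1) (by simpa using h2) (hi3 i)
      rw [h3, one_mul] at ei
      exact hb ((hA β).2 ei)
  · exact hmin.imp_right fun hm R hR => (hm R hR).elim fun i hi => ⟨α ^ i, pow_mem hαΓ i, hi⟩

end CL.BC
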