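import Mathlib
import Cfsg.Agent.FUS.BC.Defs

/-!
S5217: generators and relations when the commutator subgroup is cyclic.
-/

set_option autoImplicit false

namespace CL.BC

open Subgroup Cfsg CL.Fus CL.Bic
open scoped commutatorElement

variable {G : Type*} [Group G] [Finite G]

namespace StA

omit [Finite G] in
/-- cyclic subgroups of a cyclic normal subgroup are normal -/
theorem nz {W : Subgroup G} [hW : W.Normal] (hc : IsCyclic W) {w : G} (hw : w ∈ W) : (zpowers w).Normal := by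
  obtain ⟨u, hu⟩ := hc.exists_generator
  obtain ⟨k, hk⟩ := hu ⟨w, hw⟩
  refine ⟨?_⟩
  rintro _ ⟨i, rfl⟩ g
  obtain ⟨m, hm⟩ := hu ⟨_, hW.conj_mem u u.2 g⟩
  have e1 : (u : G) ^ k = w := congrArg Subtype.val hk
  have e2 : (u : G) ^ m = g * u * g⁻¹ := congrArg Subtype.val hm
  exact ⟨m * i, by
    dsimp only
    rw [← conj_zpow, ← e1, ← conj_zpow, ← e2, ← zpow_mul, ← zpow_mul, ← zpow_mul, mul_left_comm]⟩

omit [Finite G] in
theorem W_eq (hc : IsCyclic (commutator G)) {x y : G} (h : closure ({x, y} : Set G) = ⊤) :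
    commutator G = zpowers ⁅x, y⁆ := by
  have m : ⁅x, y⁆ ∈ commutator G := commutator_mem_commutator (mem_top _) (mem_top _)
  have := nz hc m
  exact le_antisymm (commutator_le_of_pair h (mem_zpowers _)) (zpowers_le.2 m)

omit [Finite G] in
theorem top_of {a x b y : G} (h : closure ({a, x} : Set G) = ⊤) (ha : a ∈ closure ({b, y} : Set G))
    (hx : x ∈ closure ({b, y} : Set G)) : closure ({b, y} : Set G) = ⊤ :=
  eq_top_iff.2 (h.ge.trans (Reg.pair_le ha hx))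

/-- an odd power of a generator of `G'` is not a power of a member of a generating pair -/
theorem even (hG : IsPGroup 2 G) (hm : ¬ IsMetacyclic G) {w b y : G} (hW : commutator G = zpowers w)
    (h : closure ({b, y} : Set G) = ⊤) {e : ℤ} (he : w ^ e ∈ zpowers b) : Even e := by
  by_contra n
  exact hm (R2.metacyclic_of_pair (Normal.of_commutator_le G (hW.le.trans (zpowers_le.2
    (mem_of_zpow_odd hG (Int.not_even_iff_odd.1 n) he)))) h)

theorem core (hG : IsPGroup 2 G) (hm : ¬ IsMetacyclic G) (hc : IsCyclic (commutator G)) {a x : G}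
    (hg : closure ({a, x} : Set G) = ⊤) (ha : a ^ 2 ∈ commutator G) : ∃ (w : G) (n : ℕ) (j : ℤ),
      commutator G = zpowers w ∧ orderOf w = 2 ^ (n + 1) ∧ x * a * x⁻¹ = a * w ∧ a * w * a⁻¹ = w⁻¹ ∧
      x * w * x⁻¹ = w ^ (2 * j - 1) ∧ (a ^ 2 = 1 ∨ (1 ≤ n ∧ a ^ 2 = w ^ 2 ^ n)) := by
  have hW := W_eq hc (top_of (b := a⁻¹) (y := x) hg (by simpa using inv_mem (Reg.left_mem_pair a⁻¹ x))
    (Reg.right_mem_pair _ _))
  have xa : x * a * x⁻¹ = a * ⁅a⁻¹, x⁆ := by rw [commutatorElement_def]; group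
  generalize ⁅a⁻¹, x⁆ = w at hW xa
  obtain ⟨m, ho⟩ := IsPGroup.iff_orderOf.1 hG w
  obtain _ | n := m
  · exact absurd (even hG hm hW hg (e := 1) (by rw [orderOf_eq_one_iff.1 ho]; simp)) (by decide)
  have one : ∀ k : ℤ, w ^ k = 1 ↔ 2 ^ (n + 1) ∣ k := fun k => by
    rw [← orderOf_dvd_iff_zpow_eq_one, ho]; push_cast; rfl
  have eq : ∀ {k l : ℤ}, w ^ k = w ^ l → 2 ^ (n + 1) ∣ k - l := fun e => by
    rw [← one, zpow_sub, e, mul_inv_cancel]
  have cj : ∀ g : G, ∃ j : ℤ, g * w * g⁻¹ = w ^ (2 * j - 1) := fun g => by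
    obtain ⟨s, hs⟩ := mem_zpowers_iff.1 (hW ▸ Normal.conj_mem inferInstance w (hW ▸ mem_zpowers w) g)
    rcases Int.even_or_odd' s with ⟨k, rfl | rfl⟩
    · exfalso
      have : g * w ^ (2 ^ n : ℤ) * g⁻¹ = 1 := by
        rw [← conj_zpow, ← hs, ← zpow_mul, one]
        exact ⟨k, by ring⟩
      obtain ⟨l, hl⟩ := (one _).1 (conj_eq_one_iff.1 this)
      have : (2 : ℤ) ^ n * (2 * l - 1) = 0 := by linear_combination -hl
      rcases mul_eq_zero.1 this with h | h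
      · exact absurd h (by positivity)
      · omega
    · exact ⟨k + 1, by rw [← hs]; congr 1; ring⟩
  obtain ⟨j, hj⟩ := cj x
  obtain ⟨i, hi⟩ := cj a⁻¹
  obtain ⟨e, he⟩ := mem_zpowers_iff.1 (hW ▸ ha)
  obtain ⟨e, rfl⟩ := even hG hm hW hg (e := e) (he ▸ pow_mem (mem_zpowers a) 2)
  have d1 : w ^ ((2 * j - 1) * (e + e)) = w ^ (e + e + (2 * i - 1) + 1) := by
    rw [zpow_mul, ← hj, conj_zpow, he, ← conj_pow, xa, zpow_add, zpow_add w (e + e), he, ← hi, zpow_one, sq, sq]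
    group
  have d2 : w ^ ((2 * i - 1) * (e + e)) = w ^ (e + e) := by
    rw [zpow_mul, ← hi, conj_zpow, he]
    group
  replace d1 := eq d1
  replace d2 := eq d2
  have fin : 2 ^ (n + 1) ∣ 2 * i → a * w * a⁻¹ = w⁻¹ := fun d => by
    rw [zpow_sub, (one _).2 d, one_mul, zpow_one] at hi
    rw [← inv_inj, inv_inv, conj_inv, ← hi]
    group
  obtain _ | m := n
  · exact ⟨w, 0, j, hW, ho, xa, fin ⟨i, by ring⟩, hj, .inl (he ▸ (one _).2 ⟨e, by ring⟩)⟩
  obtain ⟨k1, h1⟩ := d1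
  obtain ⟨k2, h2⟩ := d2
  have h1' : i = 2 * e * (j - 1) - 2 ^ (m + 1) * k1 := by
    have : (2 : ℤ) * (i - (2 * e * (j - 1) - 2 ^ (m + 1) * k1)) = 0 := by linear_combination -h1
    linarith
  have h2' : e * (i - 1) = 2 ^ m * k2 := by
    have : (4 : ℤ) * (e * (i - 1) - 2 ^ m * k2) = 0 := by linear_combination h2
    linarith
  have od : Odd (i - 1) := ⟨e * (j - 1) - 2 ^ m * k1 - 1, by rw [h1']; ring⟩
  obtain ⟨f, rfl⟩ : 2 ^ m ∣ e := (Int.isCoprime_two_left.2 od).pow_left.dvd_of_dvd_mul_right ⟨k2, h2'⟩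
  refine ⟨w, m + 1, j, hW, ho, xa, fin ⟨f * (j - 1) - k1, by rw [h1']; ring⟩, hj, ?_⟩
  rcases Int.even_or_odd' f with ⟨l, rfl | rfl⟩
  · exact .inl (he ▸ (one _).2 ⟨l, by ring⟩)
  · refine .inr ⟨by omega, ?_⟩
    rw [← he, ← zpow_natCast, ← mul_inv_eq_one, ← zpow_sub, one]
    exact ⟨l, by push_cast; ring⟩

end StA

/-- `W = G' = zpowers ⁅x, y⁆` (subgroups of the cyclic normal `W` are normal; `commutator_le_of_pair`).
`M = closure {x, y ^ 2}` is the subgroup of index 2 containing `x` (`BicOn.step`), `⁅x, y⁆ ∉ ℧¹(M)`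
(`metacyclic_of_comm_mem`). `x`, `w = ⁅x, y⁆` are independent modulo `℧¹(M)` (`x`, `x w ∉ ℧¹(M) ≤ T`, the third maximal
subgroup), `|M : ℧¹ M| ≤ 4`, so `M = ⟨x, w⟩ = ⟨x⟩ W`: `y ^ 2 ∈ x ^ k W`, `k = 2 i` even as `x ∉ T`;
`a = y x ^ (-i)`. -/
theorem exists_ax (hG : IsPGroup 2 G) {x y : G} (hb : BicOn ⊤ x y) (hm : ¬ IsMetacyclic G)
    (hc : IsCyclic (commutator G)) : ∃ a x : G, closure ({a, x} : Set G) = ⊤ ∧ a ^ 2 ∈ commutator G := by
  obtain ⟨T, hT, -, -, xT, -, -⟩ := hb.exists_third hG hm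
  have hg := hb.closure_eq
  have hW := StA.W_eq hc hg
  have WT : commutator G ≤ T := hW.le.trans (zpowers_le.2 (by
    rw [commutatorElement_def, mul_mem_iff_of_index_two hT, mul_mem_iff_of_index_two hT,
      mul_mem_iff_of_index_two hT, inv_mem_iff, inv_mem_iff]
    tauto))
  have wW : ⁅x, y⁆ ∈ commutator G := hW ▸ mem_zpowers _
  have yT : y ^ 2 ∈ T := T.sq_mem_of_index_two hT y
  obtain ⟨M, xM, hM⟩ := exists_index_two hG (A := zpowers x) fun e => hm (R2.metacyclic_of_pair (e ▸ inferInstance) hg)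
  have hs : BicOn M x (y ^ 2) := hb.step le_top (by simpa using hM) (xM (mem_zpowers x))
  have wM : ⁅x, y⁆ ∈ M := by
    rw [commutatorElement_def, mul_mem_iff_of_index_two hM, mul_mem_iff_of_index_two hM,
      mul_mem_iff_of_index_two hM, inv_mem_iff, inv_mem_iff]
    tauto
  have UT : powerClosure 2 1 M ≤ T := Reg.powerClosure_le_iff.2 fun m _ => by
    rw [pow_one]; exact T.sq_mem_of_index_two hT m
  have nL : (zpowers x ⊔ commutator G).Normal := Normal.of_commutator_le G le_sup_right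
  have UL : powerClosure 2 1 M ≤ (zpowers x ⊔ commutator G) ⊔ zpowers (y ^ 4) := Reg.powerClosure_le_iff.2 fun m hm => by
    obtain ⟨i, j, rfl⟩ := hs.eq m hm
    have xi : x ^ i ∈ zpowers x ⊔ commutator G := mem_sup_left (zpow_mem (mem_zpowers x) i)
    have := mul_mem (mem_sup_left (T := zpowers (y ^ 4)) (mul_mem xi (nL.conj_mem _ xi ((y ^ 2) ^ j))))
      (mem_sup_right (zpow_mem (mem_zpowers _) j))
    convert this using 1
    rw [show y ^ 4 = y ^ 2 * y ^ 2 by rw [← pow_add], (Commute.refl _).mul_zpow, pow_one, sq (x ^ i * _)]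
    generalize (y ^ 2) ^ j = u
    group
  have h1 : ⁅x, y⁆ * y ^ 2 ∈ powerClosure 2 1 M := by
    rcases four_cases (U := powerClosure 2 1 M) (a := x) (b := y ^ 2)
      (fun m hm => by simpa [sq] using Reg.pow_mem_powerClosure (p := 2) (hs.closure_eq ▸ hm) 1)
      (by rw [hs.closure_eq]; exact Reg.powerClosure_le M 1) (m := ⁅x, y⁆) (by rwa [hs.closure_eq]) with e | e | e | e
    · exact absurd (metacyclic_of_comm_mem hG hg (by rwa [hs.closure_eq])) hm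
    · exact absurd ((mul_mem_cancel_left (WT wW)).1 (UT e)) xT
    · exact e
    · exact absurd ((mul_mem_cancel_left (WT wW)).1 ((mul_mem_cancel_right yT).1 (UT e))) xT
  obtain ⟨l, hl, _, ⟨k, rfl⟩, e⟩ := mem_sup_of_normal_left.1
    ((mul_mem_cancel_left (mem_sup_left (mem_sup_right wW))).1 (UL h1))
  have h2 : y ^ 2 ∈ zpowers x ⊔ commutator G := mem_of_zpow_odd hG (i := 1 - 2 * k) ⟨-k, by ring⟩ (by
    rw [zpow_sub, zpow_one, zpow_mul, zpow_two, ← pow_add, ← eq_mul_inv_of_mul_eq e]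
    exact hl)
  obtain ⟨_, ⟨i, rfl⟩, u, hu, e⟩ := mem_sup_of_normal_right.1 h2
  obtain ⟨i, rfl⟩ := (zpow_mem_iff hT xT i).1 ((mul_mem_cancel_right (WT hu)).1 (e ▸ yT))
  refine ⟨y * (x ^ i)⁻¹, x, StA.top_of hg (Reg.right_mem_pair _ _) ((mul_mem_cancel_right
    (inv_mem (zpow_mem (Reg.right_mem_pair _ _) i))).1 (Reg.left_mem_pair _ _)), ?_⟩
  have := Normal.conj_mem inferInstance _ (mul_mem hu (commutator_mem_commutator (mem_top y⁻¹) (mem_top (x ^ i)⁻¹)))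
    (x ^ (i + i))
  convert this using 1
  rw [← mul_assoc, e, commutatorElement_def, zpow_add, sq, sq]
  generalize x ^ i = v
  group

/-- `w = a⁻¹ x a x⁻¹` generates `W`, `|w| = 2 ^ (n + 1)` (`w = 1`: abelian, metacyclic). `a⁻¹ w a = w ^ r`,
`x w x⁻¹ = w ^ s` (`r, s` odd), `a ^ 2 = w ^ e`; `e` even (else `W ≤ ⟨a⟩ ⊴ G`, `R2.metacyclic_of_pair`).
`x a² x⁻¹ = a w a w` gives `e (s - 1) ≡ r + 1`, `a` centralises `a ^ 2` gives `e (r - 1) ≡ 0 mod 2 ^ (n+1)`. If `n = 0`: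
`a ^ 2 = 1`, `r = -1` works. If `n ≥ 1`: `4 ∣ r + 1`, so `2 ^ n ∣ e`, so `r ≡ -1`. `s = 2 j - 1`, `c = w ^ j x ^ 2`
centralises `a`. If `a ^ 2 = 1` and `c ^ k = z = w ^ 2 ^ n`: `c ≠ z` (else `x ^ 2 ∈ W`: all three maximal subgroups
`⟨a, w⟩, ⟨x, w⟩, ⟨a x, w⟩` are `Gen2`; or: `x ^ 2 = w ^ f`, `f` even, then `(a x) ^ 2 = a ^ 2 w x ^ 2` generates `W`,
`⟨a x⟩ ⊴ G`), so `z = g ^ 2` with `g ∈ zpowers c` (`|c| ≥ 4`, `z` is its involution); `a' = a g` has `a' ^ 2 = z ≠ 1`,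
`closure {a', x} = ⊤` (`g` lies in every subgroup of index 2, `exists_index_two`): apply the first part to `a'`. -/
theorem exists_ST (hG : IsPGroup 2 G) (hm : ¬ IsMetacyclic G) (hc : IsCyclic (commutator G)) {a x : G}
    (hg : closure ({a, x} : Set G) = ⊤) (ha : a ^ 2 ∈ commutator G) : ∃ (a x w c : G) (n : ℕ), ST a x w c n := by
  obtain ⟨w, n, j, hW, ho, xa, aw, xw, alt⟩ := StA.core hG hm hc hg ha
  rcases alt with a2 | alt
  swap
  · exact ⟨a, x, w, _, n, hG, hm, hg, hW, ho, xa, aw, ⟨j, xw, rfl⟩, .inr alt⟩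
  by_cases hk : ∀ k : ℤ, (w ^ j * x ^ 2) ^ k ≠ w ^ 2 ^ n
  · exact ⟨a, x, w, _, n, hG, hm, hg, hW, ho, xa, aw, ⟨j, xw, rfl⟩, .inl ⟨a2, hk⟩⟩
  push Not at hk
  obtain ⟨k, hk⟩ := hk
  rcases Int.even_or_odd k with ⟨l, rfl⟩ | od
  · have ca : Commute a (w ^ j * x ^ 2) := by
      have e : a⁻¹ * w ^ j * a = w ^ (-j) := by
        have : a⁻¹ * w * a⁻¹⁻¹ = w⁻¹ := by
          rw [← inv_inj, inv_inv w, conj_inv, ← aw]
          group
        rw [zpow_neg, ← inv_zpow, ← this, conj_zpow, inv_inv]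
      calc a * (w ^ j * x ^ 2) = a * (a⁻¹ * w ^ j * a * (w * w ^ (2 * j - 1))) * x ^ 2 := by rw [e]; group
        _ = w ^ j * (a * w * (x * w * x⁻¹)) * x ^ 2 := by rw [xw]; group
        _ = w ^ j * (x * (x * a * x⁻¹) * x⁻¹) * x ^ 2 := by rw [xa, ← conj_mul, xa]
        _ = _ := by rw [sq]; group
    have cM : ∀ M : Subgroup G, M.index = 2 → w ^ j * x ^ 2 ∈ M := fun M hM => by
      refine mul_mem (zpow_mem ?_ j) (M.sq_mem_of_index_two hM x)
      rw [eq_inv_mul_of_mul_eq xa.symm, mul_mem_iff_of_index_two hM, mul_mem_iff_of_index_two hM,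
        mul_mem_iff_of_index_two hM, inv_mem_iff, inv_mem_iff]
      tauto
    generalize w ^ j * x ^ 2 = c at hk ca cM
    have sq' : (a * c ^ l) ^ 2 = w ^ 2 ^ n := by
      rw [(ca.zpow_right l).mul_pow, a2, one_mul, sq, ← zpow_add, hk]
    have hg' : closure ({a * c ^ l, x} : Set G) = ⊤ := by
      by_contra ne
      obtain ⟨M, le, hM⟩ := exists_index_two hG ne
      have : M = ⊤ := eq_top_iff.2 (hg.ge.trans (Reg.pair_le
        ((mul_mem_cancel_right (zpow_mem (cM M hM) l)).1 (le (Reg.left_mem_pair _ _))) (le (Reg.right_mem_pair _ _))))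
      rw [this, index_top] at hM
      omega
    obtain ⟨w', n', j', hW', ho', xa', aw', xw', alt'⟩ := StA.core hG hm hc hg' (sq' ▸ hW ▸ pow_mem (mem_zpowers w) _)
    refine ⟨_, x, w', _, n', hG, hm, hg', hW', ho', xa', aw', ⟨j', xw', rfl⟩, .inr (alt'.resolve_left fun e => ?_)⟩
    have := orderOf_dvd_of_pow_eq_one (sq'.symm.trans e)
    rw [ho, Nat.pow_dvd_pow_iff_le_right one_lt_two] at this
    omega
  · exfalso
    obtain ⟨f, hf⟩ := mem_zpowers_iff.1 ((mul_mem_cancel_left (zpow_mem (mem_zpowers w) j)).1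
      (mem_of_zpow_odd hG od (hk ▸ pow_mem (mem_zpowers w) _)))
    have e1 := StA.even hG hm hW (Set.pair_comm a x ▸ hg) (e := f) (hf ▸ pow_mem (mem_zpowers x) 2)
    have e2 := StA.even hG hm hW (StA.top_of (b := a * x) (y := x) hg
      ((mul_mem_cancel_right (Reg.right_mem_pair _ _)).1 (Reg.left_mem_pair _ _)) (Reg.right_mem_pair _ _)) (e := 1 + f)
      ⟨2, by
        calc (a * x) ^ (2 : ℤ) = a * (x * a * x⁻¹) * x ^ 2 := by rw [zpow_two, sq]; group
          _ = _ := by rw [xa, ← mul_assoc, ← sq, a2, one_mul, ← hf, zpow_add, zpow_one]⟩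
    obtain ⟨k1, h1⟩ := e1
    obtain ⟨k2, h2⟩ := e2
    omega

end CL.BC
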