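import Mathlib
import Cfsg.Agent.FUS.BC.Defs

/-!
S5217: the essential subgroup when the commutator subgroup is cyclic.
-/

set_option autoImplicit false

namespace CL.BC

open Subgroup Cfsg CL.Fus CL.Bic
open scoped commutatorElement

variable {G : Type*} [Group G] [Finite G]

section
variable {a x w c : G} {n : ℕ}

omit [Finite G] in
theorem ST.one (h : ST a x w c n) (i : ℤ) : w ^ i = 1 ↔ (2 : ℤ) * 2 ^ n ∣ i := by
  rw [← orderOf_dvd_iff_zpow_eq_one, h.ord]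
  push_cast
  rw [pow_succ']

omit [Finite G] in
theorem ST.ai (h : ST a x w c n) (i : ℤ) : w ^ i * a = a * w ^ (-i) := by
  have : a * w ^ (-i) * a⁻¹ = w ^ i := by rw [← conj_zpow, h.aw, inv_zpow', neg_neg]
  rw [← this, inv_mul_cancel_right]

omit [Finite G] in
theorem ST.wa (h : ST a x w c n) (i : ℤ) : w ^ i * a * (w ^ i)⁻¹ = a * w ^ (-(2 * i)) := by
  rw [h.ai, mul_assoc, ← zpow_neg, ← zpow_add]
  congr 2
  ring

omit [Finite G] in
theorem ST.zz (_ : ST a x w c n) : w ^ 2 ^ n = w ^ (2 ^ n : ℤ) := by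
  rw [← zpow_natCast]
  push_cast
  rfl

omit [Finite G] in
theorem ST.z1 (h : ST a x w c n) : w ^ 2 ^ n ≠ 1 := by
  rw [h.zz, Ne, h.one]
  intro e
  have h1 := Int.le_of_dvd (by positivity) e
  have h2 : (0 : ℤ) < 2 ^ n := by positivity
  omega

omit [Finite G] in
theorem ST.z2 (h : ST a x w c n) : (w ^ 2 ^ n) ^ 2 = 1 := by
  rw [← pow_mul, ← pow_succ, ← h.ord, pow_orderOf_eq_one]

omit [Finite G] in
theorem ST.nrm (h : ST a x w c n) : (zpowers w).Normal := h.W ▸ inferInstance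

omit [Finite G] in
theorem ST.odd (h : ST a x w c n) (g : G) : ∃ r : ℤ, g * w * g⁻¹ = w ^ (2 * r + 1) := by
  obtain ⟨r, hr⟩ := mem_zpowers_iff.1 (h.nrm.conj_mem w (mem_zpowers w) g)
  rcases Int.even_or_odd' r with ⟨k, rfl | rfl⟩
  · refine absurd ?_ h.z1
    have : g * w ^ (2 ^ n : ℤ) * g⁻¹ = 1 := by
      rw [← conj_zpow, ← hr, ← zpow_mul, h.one]
      exact ⟨k, by ring⟩
    rw [h.zz]
    simpa [mul_inv_eq_one, mul_eq_left] using this
  · exact ⟨k, hr.symm⟩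

omit [Finite G] in
theorem ST.zc (h : ST a x w c n) (g : G) : Commute g (w ^ 2 ^ n) := by
  obtain ⟨r, hr⟩ := h.odd g
  have : g * w ^ (2 ^ n : ℤ) * g⁻¹ = w ^ (2 ^ n : ℤ) := by
    rw [← conj_zpow, hr, ← zpow_mul, add_mul, zpow_add, (h.one _).2 ⟨r, by ring⟩, one_mul, one_mul]
  rw [h.zz]
  exact mul_inv_eq_iff_eq_mul.1 this

omit [Finite G] in
theorem ST.ca (h : ST a x w c n) : Commute c a := by
  obtain ⟨j, hj, rfl⟩ := h.xw
  have e : x ^ 2 * a * (x ^ 2)⁻¹ = a * w ^ (2 * j) := by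
    calc x ^ 2 * a * (x ^ 2)⁻¹ = x * (x * a * x⁻¹) * x⁻¹ := by rw [sq]; group
      _ = x * (a * w) * x⁻¹ := by rw [h.xa]
      _ = (x * a * x⁻¹) * (x * w * x⁻¹) := by group
      _ = a * w ^ (2 * j) := by rw [h.xa, hj]; group
  refine mul_inv_eq_iff_eq_mul.1 ?_
  calc w ^ j * x ^ 2 * a * (w ^ j * x ^ 2)⁻¹ = w ^ j * (x ^ 2 * a * (x ^ 2)⁻¹) * (w ^ j)⁻¹ := by group
    _ = (w ^ j * a) * w ^ j := by rw [e]; group
    _ = a := by rw [h.ai]; group

omit [Finite G] in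
theorem ST.cw (h : ST a x w c n) {i : ℤ} (hi : w ^ (8 * i) = 1) : Commute c (w ^ i) := by
  obtain ⟨j, hj, rfl⟩ := h.xw
  refine ((Commute.refl w).zpow_zpow j i).mul_left ?_
  obtain ⟨m, hm⟩ := Int.even_mul_pred_self j
  refine mul_inv_eq_iff_eq_mul.1 ?_
  calc x ^ 2 * w ^ i * (x ^ 2)⁻¹ = x * (x * w ^ i * x⁻¹) * x⁻¹ := by rw [sq]; group
    _ = w ^ ((2 * j - 1) * ((2 * j - 1) * i)) := by
      rw [← conj_zpow, hj, ← zpow_mul, ← conj_zpow, hj, ← zpow_mul]
    _ = w ^ (8 * i * m + i) := by congr 1; linear_combination 4 * i * hm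
    _ = w ^ i := by rw [zpow_add, zpow_mul, hi, one_zpow, one_mul]

omit [Finite G] in
theorem ST.xc (h : ST a x w c n) (h4 : w ^ (4 : ℤ) = 1) : Commute x c := by
  obtain ⟨j, hj, rfl⟩ := h.xw
  refine Commute.mul_right ?_ (Commute.self_pow x 2)
  obtain ⟨m, hm⟩ := Int.even_mul_pred_self j
  refine mul_inv_eq_iff_eq_mul.1 ?_
  rw [← conj_zpow, hj, ← zpow_mul, show (2 * j - 1) * j = 4 * m + j by linear_combination 2 * hm, zpow_add,
    zpow_mul, h4, one_zpow, one_mul]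

omit [Finite G] in
theorem ST.nf (h : ST a x w c n) (g : G) :
    ∃ i e m : ℤ, g = w ^ i * (a ^ e * c ^ m) ∨ g = w ^ i * (a ^ e * c ^ m) * x := by
  have hg : Abelianization.of g ∈ closure ({Abelianization.of a, Abelianization.of x} : Set _) := by
    have := mem_map_of_mem Abelianization.of (h.gen ▸ mem_top g : g ∈ closure ({a, x} : Set G))
    rwa [MonoidHom.map_closure, Set.image_pair] at this
  obtain ⟨e, k, hk⟩ := mem_closure_pair.1 hg
  have ker : ∀ y : G, Abelianization.of g = Abelianization.of y → ∃ i : ℤ, g = w ^ i * y := fun y hy => by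
    have : g * y⁻¹ ∈ zpowers w := by
      rw [← h.W, ← Abelianization.ker_of, MonoidHom.mem_ker, map_mul, map_inv, hy, mul_inv_cancel]
    obtain ⟨i, hi⟩ := mem_zpowers_iff.1 this
    exact ⟨i, by rw [hi, inv_mul_cancel_right]⟩
  have hw : Abelianization.of w = 1 := by
    rw [← MonoidHom.mem_ker, Abelianization.ker_of, h.W]
    exact mem_zpowers w
  have hc : Abelianization.of c = Abelianization.of x ^ (2 : ℤ) := by
    obtain ⟨j, -, rfl⟩ := h.xw
    rw [map_mul, map_zpow, hw, one_zpow, one_mul, map_pow, zpow_ofNat]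
  rcases Int.even_or_odd' k with ⟨m, rfl | rfl⟩
  · obtain ⟨i, hi⟩ := ker (a ^ e * c ^ m) (by rw [map_mul, map_zpow, map_zpow, hc, ← zpow_mul, hk])
    exact ⟨i, e, m, Or.inl hi⟩
  · obtain ⟨i, hi⟩ := ker (a ^ e * c ^ m * x)
      (by rw [map_mul, map_mul, map_zpow, map_zpow, hc, ← zpow_mul, ← hk, zpow_add_one, mul_assoc])
    exact ⟨i, e, m, Or.inr (by rw [hi, ← mul_assoc])⟩

omit [Finite G] in
theorem ST.cj (h : ST a x w c n) (g : G) : ∃ i : ℤ, g * a * g⁻¹ = a * w ^ i := by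
  have : ⁅a⁻¹, g⁆ ∈ zpowers w := h.W ▸ commutator_mem_commutator (mem_top _) (mem_top _)
  obtain ⟨i, hi⟩ := mem_zpowers_iff.1 this
  exact ⟨i, by rw [hi, commutatorElement_def]; group⟩

omit [Finite G] in
theorem ST.zp (h : ST a x w c n) {i : ℤ} (hi : w ^ (2 * i) = 1) : w ^ i = 1 ∨ w ^ i = w ^ 2 ^ n := by
  obtain ⟨l, hl⟩ := (h.one _).1 hi
  obtain rfl : i = 2 ^ n * l := by linarith
  rcases Int.even_or_odd' l with ⟨m, rfl | rfl⟩
  · exact Or.inl ((h.one _).2 ⟨m, by ring⟩)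
  · right
    rw [mul_add, zpow_add, (h.one _).2 ⟨m, by ring⟩, one_mul, mul_one, h.zz]

omit [Finite G] in
theorem ST.cen (h : ST a x w c n) {Q : Subgroup G} (ha : a ∈ Q) (hz : w ^ 2 ^ n ∈ Q) (hc : c ∈ Q) {g : G}
    (hg : g * a * g⁻¹ = a) : g ∈ Q := by
  obtain ⟨i, e, m, k⟩ := h.nf g
  have cm : (a ^ e * c ^ m) * a * (a ^ e * c ^ m)⁻¹ = a :=
    mul_inv_eq_iff_eq_mul.2 (((Commute.refl a).zpow_left e).mul_left (h.ca.zpow_left m))
  have tQ : a ^ e * c ^ m ∈ Q := mul_mem (zpow_mem ha _) (zpow_mem hc _)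
  generalize a ^ e * c ^ m = u at k cm tQ
  rcases k with rfl | rfl
  · have : a * w ^ (-(2 * i)) = a := by
      rw [← h.wa]
      calc w ^ i * a * (w ^ i)⁻¹ = w ^ i * (u * a * u⁻¹) * (w ^ i)⁻¹ := by rw [cm]
        _ = w ^ i * u * a * (w ^ i * u)⁻¹ := by group
        _ = a := hg
    rw [mul_eq_left, zpow_neg, inv_eq_one] at this
    refine mul_mem ?_ tQ
    rcases h.zp this with e | e <;> rw [e]
    exacts [one_mem _, hz]
  · obtain ⟨r, hr⟩ := h.odd u
    have : a * w ^ (2 * (r - i) + 1) = a := by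
      calc a * w ^ (2 * (r - i) + 1) = (a * w ^ (-i)) * w ^ (2 * r + 1) * (w ^ i)⁻¹ := by group
        _ = w ^ i * ((u * a * u⁻¹) * (u * w * u⁻¹)) * (w ^ i)⁻¹ := by rw [← h.ai, cm, hr]; group
        _ = w ^ i * u * (x * a * x⁻¹) * (w ^ i * u)⁻¹ := by rw [h.xa]; group
        _ = w ^ i * u * x * a * (w ^ i * u * x)⁻¹ := by group
        _ = a := hg
    rw [mul_eq_left, h.one] at this
    have := (dvd_mul_right _ _).trans this
    omega

omit [Finite G] in
theorem ST.nodd (h : ST a x w c n) {i k : ℤ} {u : G} (hu : u ∈ zpowers w) (e : a ^ i * u = c ^ k) : Even i := by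
  rcases Int.even_or_odd' i with ⟨l, rfl | rfl⟩
  · exact even_two_mul l
  refine absurd (R2.metacyclic_of_pair h.nrm (y := x) ?_) h.nm
  have hw : w ∈ closure ({w, x} : Set G) := subset_closure (by simp)
  have hx : x ∈ closure ({w, x} : Set G) := subset_closure (by simp)
  have hc : c ∈ closure ({w, x} : Set G) := by
    obtain ⟨j, -, rfl⟩ := h.xw
    exact mul_mem (zpow_mem hw _) (pow_mem hx _)
  have h2 : a ^ 2 ∈ closure ({w, x} : Set G) := by
    rcases h.alt with e | e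
    · rw [e.1]; exact one_mem _
    · rw [e.2]; exact pow_mem hw _
  have ha : a ∈ closure ({w, x} : Set G) := by
    have : a = ((a ^ 2) ^ l)⁻¹ * c ^ k * u⁻¹ := by rw [← e]; group
    rw [this]
    exact mul_mem (mul_mem (inv_mem (zpow_mem h2 _)) (zpow_mem hc _)) (inv_mem (zpowers_le.2 hw hu))
  rw [eq_top_iff, ← h.gen, closure_le]
  rintro y (rfl | rfl)
  exacts [ha, hx]

theorem ST.mkNQ (h : ST a x w c n) {t b : G} (hz : w ^ 2 ^ n ∈ closure ({a, b, c} : Set G))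
    (ta : t * a * t⁻¹ = a * b) (tb : t * b * t⁻¹ = b ∨ t * b * t⁻¹ = b⁻¹) (tc : Commute t c)
    (tq : t ∉ closure ({a, b, c} : Set G))
    (key : ∀ i : ℤ, w ^ i ∈ closure ({a, b, c} : Set G) → ∀ g : G, g * a * g⁻¹ = a * w ^ i →
      g ∈ closure ({a, b, c} : Set G) ∨ t⁻¹ * g ∈ closure ({a, b, c} : Set G)) :
    NQ (closure ({a, b, c} : Set G)) t := by
  have ha : a ∈ closure ({a, b, c} : Set G) := subset_closure (by simp)
  have hb : b ∈ closure ({a, b, c} : Set G) := subset_closure (by simp)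
  have hc : c ∈ closure ({a, b, c} : Set G) := subset_closure (by simp)
  have tn : t ∈ normalizer ((closure ({a, b, c} : Set G) : Subgroup G) : Set G) := by
    refine mem_normalizer_fintype fun y hy => ?_
    have : closure ({a, b, c} : Set G) ≤ (closure ({a, b, c} : Set G)).comap (MulAut.conj t).toMonoidHom := by
      rw [closure_le]
      rintro y (rfl | rfl | rfl)
      · change t * y * t⁻¹ ∈ Subgroup.closure _
        rw [ta]
        exact mul_mem ha hb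
      · change t * y * t⁻¹ ∈ Subgroup.closure _
        rcases tb with e | e <;> rw [e]
        exacts [hb, inv_mem hb]
      · change t * y * t⁻¹ ∈ Subgroup.closure _
        rwa [tc.eq, mul_inv_cancel_right]
    exact this hy
  refine ⟨fun g hg => h.cen ha hz hc (mul_inv_eq_iff_eq_mul.2 (hg a ha).symm), tn, tq, fun g hg => ?_⟩
  obtain ⟨i, hi⟩ := h.cj g
  have h1 := (hg a).1 ha
  rw [hi] at h1
  refine (key i ((mul_mem_cancel_left ha).1 h1) g hi).imp id fun e => ?_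
  have := (tn _).1 e
  rwa [mul_inv_cancel_left] at this

/-- case `a ^ 2 = 1` -/
theorem ST.caseA (h : ST a x w c n) (a2 : a ^ 2 = 1) (hk : ∀ k : ℤ, c ^ k ≠ w ^ 2 ^ n) {t : G}
    (ta : t * a * t⁻¹ = a * w ^ 2 ^ n) (tc : Commute t c) :
    Q8 (closure ({a, w ^ 2 ^ n, c} : Set G)) t a (w ^ 2 ^ n) c ∧ NQ (closure ({a, w ^ 2 ^ n, c} : Set G)) t := by
  have ha : a ∈ closure ({a, w ^ 2 ^ n, c} : Set G) := subset_closure (by simp)
  have hb : w ^ 2 ^ n ∈ closure ({a, w ^ 2 ^ n, c} : Set G) := subset_closure (by simp)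
  have hc : c ∈ closure ({a, w ^ 2 ^ n, c} : Set G) := subset_closure (by simp)
  have tb : t * w ^ 2 ^ n * t⁻¹ = w ^ 2 ^ n := mul_inv_eq_iff_eq_mul.2 (h.zc t)
  have le : ∀ g ∈ closure ({a, w ^ 2 ^ n, c} : Set G), g * a * g⁻¹ = a := fun g hg => by
    have : closure ({a, w ^ 2 ^ n, c} : Set G) ≤ centralizer {a} := by
      rw [closure_le]
      rintro y (rfl | rfl | rfl)
      exacts [mem_centralizer_singleton_iff.2 rfl, mem_centralizer_singleton_iff.2 (h.zc a).symm,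
        mem_centralizer_singleton_iff.2 h.ca]
    exact mul_inv_eq_iff_eq_mul.2 (mem_centralizer_singleton_iff.1 (this hg))
  refine ⟨⟨rfl, ?_, ?_, ?_, h.ca, h.zc c, ta, Or.inl tb, fun i j k e => ?_⟩,
    h.mkNQ hb ta (Or.inl tb) tc (fun ht => ?_) fun i hi g hg => ?_⟩
  · rw [show 4 = 2 * 2 from rfl, pow_mul, a2, one_pow]
  · rw [h.z2, a2]
  · rw [← (h.zc a).eq, mul_inv_cancel_right, eq_inv_iff_mul_eq_one, ← sq, a2]
  · have ev := h.nodd (zpow_mem (pow_mem (mem_zpowers w) _) j) e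
    refine ⟨ev, ?_⟩
    obtain ⟨l, rfl⟩ := ev
    rcases Int.even_or_odd' j with ⟨m, rfl | rfl⟩
    · exact even_two_mul m
    · rw [← two_mul, zpow_mul, zpow_add_one, zpow_mul, zpow_ofNat, zpow_ofNat, a2, h.z2, one_zpow, one_zpow,
        one_mul, one_mul] at e
      exact absurd e.symm (hk k)
  · exact h.z1 (mul_eq_left.1 (ta.symm.trans (le t ht)))
  · have h1 := le _ hi
    rw [h.wa, mul_eq_left, zpow_neg, inv_eq_one] at h1
    rcases h.zp h1 with e | e <;> rw [e] at hg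
    · exact Or.inl (h.cen ha hb hc (by rw [hg, mul_one]))
    · refine Or.inr (h.cen ha hb hc ?_)
      calc t⁻¹ * g * a * (t⁻¹ * g)⁻¹ = t⁻¹ * (g * a * g⁻¹) * t := by group
        _ = a := by rw [hg, ← ta]; group

/-- case `a ^ 2 = z` -/
theorem ST.caseB (h : ST a x w c (n + 1)) (a2 : a ^ 2 = w ^ 2 ^ (n + 1)) {t b : G} (eb : b = w ^ (2 ^ n : ℤ))
    (ta : t * a * t⁻¹ = a * b) (tb : t * b * t⁻¹ = b ∨ t * b * t⁻¹ = b⁻¹) (tc : Commute t c) :
    Q8 (closure ({a, b, c} : Set G)) t a b c ∧ NQ (closure ({a, b, c} : Set G)) t := by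
  have ha : a ∈ closure ({a, b, c} : Set G) := subset_closure (by simp)
  have hb : b ∈ closure ({a, b, c} : Set G) := subset_closure (by simp)
  have hc : c ∈ closure ({a, b, c} : Set G) := subset_closure (by simp)
  have b2 : b ^ 2 = a ^ 2 := by rw [a2, h.zz, eb, ← zpow_ofNat, ← zpow_mul, pow_succ]
  have hz : w ^ 2 ^ (n + 1) ∈ closure ({a, b, c} : Set G) := a2 ▸ pow_mem ha 2
  have a4 : a ^ 4 = 1 := by rw [show 4 = 2 * 2 from rfl, pow_mul, a2, h.z2]
  have az : a * w ^ 2 ^ (n + 1) = a⁻¹ := by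
    rw [eq_inv_iff_mul_eq_one, ← a2, ← a4]
    group
  have zi : (w ^ 2 ^ (n + 1))⁻¹ = w ^ 2 ^ (n + 1) := by rw [inv_eq_iff_mul_eq_one, ← sq, h.z2]
  have ba : b * a * b⁻¹ = a⁻¹ := by rw [eb, h.wa, zpow_neg, ← pow_succ', ← h.zz, zi, az]
  have cb : Commute c b := eb ▸ h.cw ((h.one _).2 ⟨2, by ring⟩)
  have le : ∀ g ∈ closure ({a, b, c} : Set G), g * a * g⁻¹ = a ∨ g * a * g⁻¹ = a⁻¹ := fun g hg => by
    induction hg using closure_induction with
    | mem y hy =>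
      rcases hy with rfl | rfl | rfl
      exacts [Or.inl (mul_inv_cancel_right _ _), Or.inr ba, Or.inl (mul_inv_eq_iff_eq_mul.2 h.ca)]
    | one => simp
    | mul y y' _ _ hy hy' =>
      have e : y * y' * a * (y * y')⁻¹ = y * (y' * a * y'⁻¹) * y⁻¹ := by group
      have e' : y * a⁻¹ * y⁻¹ = (y * a * y⁻¹)⁻¹ := by group
      rcases hy' with k | k <;> rw [e, k]
      · exact hy
      · rw [e']
        rcases hy with k | k <;> rw [k]
        exacts [Or.inr rfl, Or.inl (inv_inv _)]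
    | inv y _ hy =>
      rcases hy with k | k
      · left
        conv_lhs => rw [← k]
        group
      · right
        conv_lhs => rw [← inv_inv a, ← k]
        group
  have ge : ∀ g : G, g * a * g⁻¹ = a ∨ g * a * g⁻¹ = a⁻¹ → g ∈ closure ({a, b, c} : Set G) := fun g hg => by
    rcases hg with k | k
    · exact h.cen ha hz hc k
    · refine (mul_mem_cancel_left (inv_mem hb)).1 (h.cen ha hz hc ?_)
      calc b⁻¹ * g * a * (b⁻¹ * g)⁻¹ = b⁻¹ * (g * a * g⁻¹) * b := by group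
        _ = a := by rw [k, ← ba]; group
  have bj : ∀ j : ℤ, b ^ (2 * j) = 1 → Even j := fun j e => by
    rw [eb, ← zpow_mul, h.one] at e
    obtain ⟨m, hm⟩ := e
    have : (2 : ℤ) ^ n * (2 * j) = 2 ^ n * (4 * m) := by rw [hm]; ring
    have := mul_left_cancel₀ (by positivity) this
    exact ⟨m, by omega⟩
  refine ⟨⟨rfl, a4, b2, ba, h.ca, cb, ta, tb, fun i j k e => ?_⟩,
    h.mkNQ hz ta tb tc (fun ht => ?_) fun i hi g hg => ?_⟩
  · have ev := h.nodd (zpow_mem (eb ▸ zpow_mem (mem_zpowers w) _) j) e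
    refine ⟨ev, bj j ?_⟩
    obtain ⟨l, rfl⟩ := ev
    have cm : Commute (b ^ j) a := by
      rw [eq_inv_mul_of_mul_eq e]
      exact ((Commute.refl a).zpow_left _).inv_left.mul_left (h.ca.zpow_left k)
    have := mul_inv_eq_iff_eq_mul.2 cm.eq
    rw [eb, ← zpow_mul, h.wa, mul_eq_left, zpow_neg, inv_eq_one] at this
    rw [eb, ← zpow_mul, ← this]
    congr 1
    ring
  · have : b ^ (2 * (1 : ℤ)) = 1 := by
      rw [mul_one, zpow_ofNat]
      rcases le t ht with k | k <;> rw [ta] at k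
      · rw [mul_eq_left.1 k, one_pow]
      · rw [← az] at k
        rw [mul_left_cancel k, h.z2]
    exact absurd (bj 1 this) (by decide)
  · have h4 : w ^ (2 * (2 * i)) = 1 := by
      rw [mul_comm, zpow_mul, zpow_ofNat]
      rcases le _ hi with k | k <;> rw [h.wa, zpow_neg] at k
      · rw [inv_eq_one.1 (mul_eq_left.1 k), one_pow]
      · rw [← az] at k
        rw [inv_eq_iff_eq_inv.1 (mul_left_cancel k), zi, h.z2]
    obtain ⟨l, hl⟩ := (h.one _).1 h4
    obtain rfl : i = 2 ^ n * l := by rw [pow_succ] at hl; linarith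
    have zj : ∀ m : ℤ, b ^ (2 * m) = 1 ∨ b ^ (2 * m) = w ^ 2 ^ (n + 1) := fun m => by
      rw [eb, ← zpow_mul]
      exact h.zp ((h.one _).2 ⟨m, by ring⟩)
    rw [zpow_mul, ← eb] at hg
    rcases Int.even_or_odd' l with ⟨m, rfl | rfl⟩
    · refine Or.inl (ge g ?_)
      rcases zj m with k | k <;> rw [hg, k]
      exacts [Or.inl (mul_one a), Or.inr az]
    · refine Or.inr (ge _ ?_)
      have e : t⁻¹ * g * a * (t⁻¹ * g)⁻¹ = t⁻¹ * (g * a * g⁻¹) * t := by group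
      rw [e, hg, zpow_add_one]
      rcases zj m with k | k <;> rw [k]
      · left
        rw [one_mul, ← ta]
        group
      · right
        rw [← (h.zc b).eq, ← mul_assoc a, ← ta, mul_assoc t⁻¹, mul_assoc _ _ t, ← (h.zc t).eq, ← az]
        group

end

/-- `z = w ^ 2 ^ n` (central), `W = ⟨w⟩`, `s = 2 j - 1`; `c` centralises `a`, `c w c⁻¹ = w ^ (s * s)`, `s * s ≡ 1 mod 8`, so
`c` centralises the `w ^ i` of order `∣ 8`. `T = closure {a, w, c} ∋ x ^ 2` is normalised by `x`; elements of `T` are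
`a ^ e w ^ i c ^ k`, elements of `G` are `g` or `g x`, `g ∈ T`. `x a x⁻¹ = a w` and `T` maps `a w ^ odd` to `a w ^ odd`, so
`C(a) ≤ T` and `C(a) = closure {a, z, c}` (`w ^ i` commutes with `a` iff `w ^ (2 i) = 1`). An element of `W` commuting
with `a` lies in `⟨z⟩`. `free`: `i` odd gives `a ∈ ⟨x⟩ W`, `G = ⟨w, x⟩` metacyclic; `i` even gives `c ^ k ∈ ⟨z⟩`.
Case `a ^ 2 = 1`: `b = z`, `Q = C(a)`, `t = x` if `n = 0`, `t = w ^ 2 ^ (n - 1)` otherwise (`t a t⁻¹ = a z`, `t`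
normalises `C(a) = C(a z)`); `g ∈ N(Q)` gives `g a g⁻¹ = a w ^ i ∈ Q`, `w ^ i ∈ ⟨z⟩`. Case `a ^ 2 = z`:
`b = w ^ 2 ^ (n - 1)`, `Q ∩ W = ⟨b⟩`, `g a g⁻¹ ∈ a ⟨b⟩`; `n = 1`: `b = w`, `t = x`, `Q = T` normal
(`x c x⁻¹ = c` as `j (s - 1) = 2 j (j - 1)`); `n ≥ 2`: `d = w ^ 2 ^ (n - 2)`, `t = d⁻¹`. -/
theorem exists_Q8 {a x w c : G} {n : ℕ} (h : ST a x w c n) : ∃ (Q : Subgroup G) (t a b c : G),
    Q8 Q t a b c ∧ Commute t c ∧ NQ Q t ∧ (Q.Normal ∨ a ^ 2 = 1 ∨ ∃ d, d ∉ Q ∧ Commute d b ∧ Commute d c) := by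
  rcases h.alt with ⟨a2, hk⟩ | ⟨hn, a2⟩
  · rcases n with _ | n
    · have tc := h.xc ((h.one _).2 ⟨2, by norm_num⟩)
      have k := h.caseA a2 hk (t := x) (by rw [h.xa, pow_zero, pow_one]) tc
      exact ⟨_, _, _, _, _, k.1, tc, k.2, Or.inr (Or.inl a2)⟩
    · have tc := (h.cw (i := -2 ^ n) ((h.one _).2 ⟨-2, by ring⟩)).symm
      have k := h.caseA a2 hk (t := w ^ (-2 ^ n : ℤ)) (by rw [h.wa, h.zz]; congr 2; ring) tc
      exact ⟨_, _, _, _, _, k.1, tc, k.2, Or.inr (Or.inl a2)⟩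
  · rcases n with _ | _ | n
    · omega
    · have h4 : w ^ (4 : ℤ) = 1 := (h.one _).2 ⟨1, by norm_num⟩
      have tc := h.xc h4
      have tb : x * w * x⁻¹ = w ∨ x * w * x⁻¹ = w⁻¹ := by
        obtain ⟨j, hj, -⟩ := h.xw
        rw [hj]
        rcases Int.even_or_odd' j with ⟨m, rfl | rfl⟩
        · right
          rw [zpow_sub_one, ← mul_assoc, show (2 : ℤ) * 2 = 4 from rfl, zpow_mul, h4, one_zpow, one_mul]
        · left
          rw [show 2 * (2 * m + 1) - 1 = 4 * m + 1 by ring, zpow_add_one, zpow_mul, h4, one_zpow, one_mul]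
      have k := h.caseB a2 (t := x) (b := w) (by simp) h.xa tb tc
      refine ⟨_, _, _, _, _, k.1, tc, k.2, Or.inl ?_⟩
      rw [← normalizer_eq_top_iff, eq_top_iff, ← h.gen, closure_le]
      rintro y (rfl | rfl)
      exacts [le_normalizer (subset_closure (by simp)), k.2.tn]
    · have tc := (h.cw (i := -2 ^ n) ((h.one _).2 ⟨-1, by ring⟩)).symm
      have cb : Commute (w ^ (-2 ^ n : ℤ)) (w ^ (2 ^ (n + 1) : ℤ)) := (Commute.refl w).zpow_zpow _ _
      have k := h.caseB a2 (t := w ^ (-2 ^ n : ℤ)) rfl (by rw [h.wa]; congr 2; ring)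
        (Or.inl (mul_inv_eq_iff_eq_mul.2 cb)) tc
      exact ⟨_, _, _, _, _, k.1, tc, k.2, Or.inr (Or.inr ⟨_, k.2.tq, cb, tc⟩)⟩

end CL.BC
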